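import Groth.Prelude.Def_LogNCD
import Groth.Agent.Lib.ModLimH13.Hom1
import Groth.Agent.Lib.TensorMod.IdealMod

/-!
# Sections of log modules on charts with principal components, and the residue sequence
-/

universe u

open CategoryTheory CategoryTheory.Limits AlgebraicGeometry Opposite TopologicalSpace

set_option backward.isDefEq.respectTransparency false

namespace Groth.Agent.LogNCD28

variable {X S : Scheme.{u}} {f : X ⟶ S} {Ω' : X.Modules} {d : OmegaSh.Der f Ω'} {r : ℕ}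
  {D : Fin r → X.IdealSheafData}

theorem ideal_eq_top_of_disjoint (I : X.IdealSheafData) (W : X.affineOpens)
    (h : ∀ x ∈ W.1, x ∉ I.support) : I.ideal W = ⊤ := by
  rw [← Ideal.span_eq (I.ideal W)]
  refine W.2.self_le_iSup_basicOpen_iff.1 fun x hx => ?_
  by_contra hx'
  refine h x hx ((I.mem_support_iff_of_mem hx).2 ((X.mem_zeroLocus_iff _ _).2 fun g hg hxg => hx' ?_))
  exact Opens.mem_iSup.2 ⟨⟨g, hg⟩, hxg⟩

/-- Near every point all components are principal on small affine opens. -/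
theorem exists_principal (hD : LogNCD.IsNCD D f) (x : X) :
    ∃ O : X.Opens, x ∈ O ∧ ∀ W : X.affineOpens, W.1 ≤ O →
      ∃ g : Fin r → Γ(X, W.1), ∀ i, (D i).ideal W = Ideal.span {g i} := by
  classical
  by_cases hne : Nonempty (LogNCD.Through D x)
  · obtain ⟨O, hxO, n, v, e, -, -, h1, h2⟩ := hD x hne
    refine ⟨O, hxO, fun W hW => ⟨fun i => if hi : x ∈ (D i).support then
      LogNCD.sectOn O hW (v (ULift.up (e ⟨i, hi⟩))) else 1, fun i => ?_⟩⟩
    by_cases hi : x ∈ (D i).support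
    · simp only [dif_pos hi]
      exact h1 ⟨i, hi⟩ W hW
    · simp only [dif_neg hi]
      rw [h2 i hi W hW, Ideal.span_singleton_one]
  · have hc : IsClosed (⋃ i, ((D i).support : Set X)) :=
      isClosed_iUnion_of_finite fun i => (D i).support.isClosed
    refine ⟨⟨(⋃ i, ((D i).support : Set X))ᶜ, hc.isOpen_compl⟩, ?_, fun W hW => ⟨fun _ => 1, fun i => ?_⟩⟩
    · intro hx
      obtain ⟨i, hi⟩ := Set.mem_iUnion.1 hx
      exact hne ⟨⟨i, hi⟩⟩
    · rw [Ideal.span_singleton_one]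
      exact ideal_eq_top_of_disjoint _ _ fun y hy hyi => hW hy (Set.mem_iUnion.2 ⟨i, hyi⟩)

theorem toSubscheme_eq_zero_iff (I : X.IdealSheafData) (W : X.affineOpens) (a : Γ(X, W.1)) :
    (ClSub.toSubscheme I).app W.1 (OmegaSh.strSect X W.1 a) = 0 ↔ a ∈ I.ideal W := by
  conv_rhs => rw [← I.ker_subschemeι, Scheme.Hom.ker_apply]
  rw [RingHom.mem_ker]
  exact Iff.rfl

theorem smul_oneOn (I : X.IdealSheafData) (W : X.Opens) (a : Γ(X, W)) :
    a • (LogNCD.oneOn I W : Γ(ClSub.quotMod I, W)) = (ClSub.toSubscheme I).app W (OmegaSh.strSect X W a) := by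
  refine (Scheme.Modules.Hom.app_smul (ClSub.toSubscheme I) a (OmegaSh.strSect X W 1)).symm.trans ?_
  congr 1
  exact mul_one a

/-- The content of the binder on one chart, in the notation of `Scheme.Modules`. -/
structure Chart (Λ : LogNCD.LogMod d D) (W : X.affineOpens) where
  g : Fin r → Γ(X, W.1)
  hg : ∀ i, (D i).ideal W = Ideal.span {g i}
  torsion : ∀ x : Γ(Λ.L, W.1), (∏ i, g i) • x = 0 → x = 0
  dl : Fin r → Γ(Λ.L, W.1)
  gdl : ∀ i, g i • dl i = Λ.ι.app W.1 (d.app W.1 (g i))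
  gen : ∀ s : Γ(Λ.L, W.1), ∃ (w : Γ(Ω', W.1)) (a : Fin r → Γ(X, W.1)),
    s = Λ.ι.app W.1 w + ∑ i, a i • dl i
  res_self : ∀ i, (Λ.res i).app W.1 (dl i) = LogNCD.oneOn (D i) W.1
  res_ne : ∀ i j, i ≠ j → (Λ.res j).app W.1 (dl i) = 0

theorem nonempty_chart (Λ : LogNCD.LogMod d D) (W : X.affineOpens) (g : Fin r → Γ(X, W.1))
    (hg : ∀ i, (D i).ideal W = Ideal.span {g i}) : ∃ C : Chart Λ W, C.g = g := by
  obtain ⟨h0, dl, h1, h2, h3, h4⟩ := Λ.rule W g hg
  refine ⟨⟨g, hg, h0, dl, h1, fun s => ?_, h3, h4⟩, rfl⟩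
  have hs : (s : Λ.L.val.obj (op W.1)) ∈ Submodule.span Γ(X, W.1)
      (Set.range ((Λ.ι.val.app (op W.1)).hom) ∪ Set.range dl) := by rw [h2]; exact Submodule.mem_top
  rw [Submodule.span_union, Submodule.mem_sup] at hs
  obtain ⟨y, hy, z, hz, hyz⟩ := hs
  rw [← LinearMap.coe_range, Submodule.span_eq] at hy
  obtain ⟨w, hw⟩ := hy
  obtain ⟨a, ha⟩ := (Submodule.mem_span_range_iff_exists_fun _).1 hz
  refine ⟨w, a, ?_⟩
  rw [← hyz, ← hw, ← ha]
  rfl

variable {Λ : LogNCD.LogMod d D} {W : X.affineOpens} (C : Chart Λ W)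

omit C in
theorem res_ι_app (j : Fin r) (w : Γ(Ω', W.1)) : (Λ.res j).app W.1 (Λ.ι.app W.1 w) = 0 :=
  (congrArg (fun φ : Ω' ⟶ ClSub.quotMod (D j) => φ.app W.1 w) (Λ.res_ι j))

theorem Chart.res_gen (w : Γ(Ω', W.1)) (a : Fin r → Γ(X, W.1)) (j : Fin r) :
    (Λ.res j).app W.1 (Λ.ι.app W.1 w + ∑ i, a i • C.dl i) =
      (ClSub.toSubscheme (D j)).app W.1 (OmegaSh.strSect X W.1 (a j)) := by
  rw [map_add, res_ι_app, zero_add, map_sum, Finset.sum_eq_single j]
  · rw [Scheme.Modules.Hom.app_smul, C.res_self, smul_oneOn]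
  · intro i _ hij
    rw [Scheme.Modules.Hom.app_smul, C.res_ne i j hij, smul_zero]
  · exact fun h => absurd (Finset.mem_univ j) h

/-- A coefficient with vanishing residue is absorbed by the forms without poles. -/
theorem Chart.smul_dl_mem (j : Fin r) (a : Γ(X, W.1)) (h : a ∈ (D j).ideal W) :
    ∃ w : Γ(Ω', W.1), a • C.dl j = Λ.ι.app W.1 w := by
  rw [C.hg j, Ideal.mem_span_singleton'] at h
  obtain ⟨b, rfl⟩ := h
  exact ⟨b • d.app W.1 (C.g j), by rw [mul_smul, C.gdl, Scheme.Modules.Hom.app_smul]⟩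

theorem Chart.exists_ι_eq (C : Chart Λ W) (s : Γ(Λ.L, W.1)) (h : ∀ j, (Λ.res j).app W.1 s = 0) :
    ∃ w, Λ.ι.app W.1 w = s := by
  obtain ⟨w, a, rfl⟩ := C.gen s
  choose v hv using fun j => C.smul_dl_mem j (a j)
    ((toSubscheme_eq_zero_iff _ _ _).1 ((C.res_gen w a j).symm.trans (h j)))
  exact ⟨w + ∑ j, v j, by simp [map_add, map_sum, hv]⟩

/-- The residue sequence is short exact. -/
theorem shortExact_res (hD : LogNCD.IsNCD D f) (Λ : LogNCD.LogMod d D) (h : Λ.ι ≫ Pi.lift Λ.res = 0) :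
    (ShortComplex.mk Λ.ι (Pi.lift Λ.res) h).ShortExact := by
  haveI := Λ.mono
  haveI : HasFiniteBiproducts X.Modules := HasFiniteBiproducts.of_hasFiniteProducts
  refine { exact := ?_, mono_f := Λ.mono, epi_g := ?_ }
  · refine ShortComplex.exact_of_f_is_kernel _ (KernelFork.IsLimit.ofι' _ _ fun {A} k hk => ?_)
    have hkj : ∀ j, k ≫ Λ.res j = 0 := fun j => by
      have := hk =≫ Pi.π (fun i => ClSub.quotMod (D i)) j
      simpa using this
    have hc : k ≫ cokernel.π Λ.ι = 0 := by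
      refine ModLimH13.hom_ext_affine _ _ fun x => ?_
      obtain ⟨O, hxO, hO⟩ := exists_principal hD x
      refine ⟨O, hxO, fun W hW hWa a => ?_⟩
      obtain ⟨g, hg⟩ := hO ⟨W, hWa⟩ hW
      obtain ⟨C, -⟩ := nonempty_chart Λ ⟨W, hWa⟩ g hg
      obtain ⟨w, hw⟩ := C.exists_ι_eq (k.app W a) fun j =>
        congrArg (fun φ : A ⟶ ClSub.quotMod (D j) => φ.app W a) (hkj j)
      refine Eq.trans ?_ (congrArg (fun φ : Ω' ⟶ cokernel Λ.ι => φ.app W w) (cokernel.condition Λ.ι))
      exact congrArg (fun z => (cokernel.π Λ.ι).app W z) hw.symm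
    exact ⟨Abelian.monoLift Λ.ι k hc, Abelian.monoLift_comp _ _ _⟩
  · refine Preadditive.epi_of_cancel_zero _ fun {Z} φ hφ => ?_
    let F : Fin r → X.Modules := fun i => ClSub.quotMod (D i)
    let ψ : ∀ i, F i ⟶ Z := fun i => biproduct.ι F i ≫ (biproduct.isoProduct F).hom ≫ φ
    have key : ∑ i, Λ.res i ≫ ψ i = 0 := by
      have e : Pi.lift Λ.res = biproduct.lift Λ.res ≫ (biproduct.isoProduct F).hom := by
        refine Limits.Pi.hom_ext _ _ fun i => ?_
        simp [F]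
      replace hφ : Pi.lift Λ.res ≫ φ = 0 := hφ
      rw [e] at hφ
      rw [← biproduct.lift_desc]
      refine Eq.trans ?_ hφ
      rw [Category.assoc]
      congr 1
      exact biproduct.hom_ext' _ _ fun i => by simp [ψ, F]
    have hψ : ∀ i, ψ i = 0 := by
      intro i
      haveI := M2.epi_toSubscheme (D i)
      rw [← cancel_epi (ClSub.toSubscheme (D i)), comp_zero]
      refine ModLimH13.hom_ext_affine _ _ fun x => ?_
      obtain ⟨O, hxO, hO⟩ := exists_principal hD x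
      refine ⟨O, hxO, fun W hW hWa (a : Γ(X, W)) => ?_⟩
      obtain ⟨g, hg⟩ := hO ⟨W, hWa⟩ hW
      obtain ⟨C, -⟩ := nonempty_chart Λ ⟨W, hWa⟩ g hg
      have h' := congrArg (fun χ : Λ.L ⟶ Z => χ.app W (a • C.dl i)) key
      have hsum : ∀ (s : Finset (Fin r)), (∑ j ∈ s, Λ.res j ≫ ψ j).app W (a • C.dl i) =
          ∑ j ∈ s, (ψ j).app W ((Λ.res j).app W (a • C.dl i)) := by
        intro s
        induction s using Finset.induction with
        | empty => rfl
        | insert j s hj ih =>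
          rw [Finset.sum_insert hj, Finset.sum_insert hj, ← ih]
          rfl
      simp only [hsum] at h'
      rw [Finset.sum_eq_single i] at h'
      · rw [Scheme.Modules.Hom.app_smul, C.res_self, smul_oneOn] at h'
        exact h'
      · intro j _ hji
        rw [Scheme.Modules.Hom.app_smul, C.res_ne i j (Ne.symm hji), smul_zero, map_zero]
      · exact fun h => absurd (Finset.mem_univ i) h
    rw [← Iso.cancel_iso_hom_left (biproduct.isoProduct F), comp_zero]
    exact biproduct.hom_ext' _ _ fun i => by rw [comp_zero]; exact hψ i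

end Groth.Agent.LogNCD28
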