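import Groth.Agent.Lib.LogNCD28.Local
import Mathlib.Topology.Sheaves.SheafCondition.UniqueGluing

/-!
# Construction of the log module
-/

universe u

open CategoryTheory CategoryTheory.Limits AlgebraicGeometry Opposite TopologicalSpace
open Groth.Agent.M1

set_option backward.isDefEq.respectTransparency false
set_option backward.isDefEq.respectTransparency.types false
set_option linter.style.haveILetI false
set_option maxHeartbeats 1000000

noncomputable section

namespace Groth.Agent.LogNCD28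

variable {X S : Scheme.{u}} {f : X ⟶ S} {Ω' : X.Modules} (d : OmegaSh.Der f Ω') {r : ℕ}
  (D : Fin r → X.IdealSheafData)

/-- Generators of the components on an affine open. -/
structure Prin (W : X.affineOpens) where
  g : Fin r → Γ(X, W.1)
  hg : ∀ i, (D i).ideal W = Ideal.span {g i}

variable {D}

theorem Prin.isUnit {W : X.affineOpens} (G : Prin D W) (i : Fin r) :
    IsUnit (ores (inf_le_left : W.1 ⊓ offD D ≤ W.1) (G.g i)) := by
  have h1 : IsUnit (ores (X.basicOpen_le (G.g i)) (G.g i)) := X.toRingedSpace.isUnit_res_basicOpen (G.g i)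
  rw [← ores_ores (X.basicOpen_le (G.g i)) (inf_offD_le G.hg i)]
  exact h1.map _

/-- Restriction of generators. -/
def Prin.mres {W W' : X.affineOpens} (G : Prin D W) (h : W'.1 ≤ W.1) : Prin D W' :=
  ⟨fun i => ores h (G.g i), fun i => by
    rw [← (D i).map_ideal (U := W') (V := W) h, G.hg, Ideal.map_span, Set.image_singleton]; rfl⟩

variable (D)

/-- Sections with poles along `D`. -/
def Sec (Ω' : X.Modules) (V : X.Opens) : Type u := Γ(Ω', V ⊓ offD D)

instance secAb (V : X.Opens) : AddCommGroup (Sec D Ω' V) := inferInstanceAs (AddCommGroup Γ(Ω', V ⊓ offD D))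

instance secModU (V : X.Opens) : Module Γ(X, V ⊓ offD D) (Sec D Ω' V) :=
  inferInstanceAs (Module Γ(X, V ⊓ offD D) Γ(Ω', V ⊓ offD D))

instance secMod (V : X.Opens) : Module Γ(X, V) (Sec D Ω' V) :=
  Module.compHom _ (ores (inf_le_left : V ⊓ offD D ≤ V)).hom

variable {D}

theorem sec_smul {V : X.Opens} (c : Γ(X, V)) (s : Sec D Ω' V) :
    c • s = HSMul.hSMul (β := Sec D Ω' V) (ores (inf_le_left : V ⊓ offD D ≤ V) c) s := rfl

/-- Restriction of sections with poles. -/
def sres {V V' : X.Opens} (h : V' ≤ V) : Sec D Ω' V →+ Sec D Ω' V' :=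
  (M1.mres Ω' (inf_le_inf_right _ h : V' ⊓ offD D ≤ V ⊓ offD D)).hom

theorem sres_sres {V V' V'' : X.Opens} (h : V' ≤ V) (h' : V'' ≤ V') (s : Sec D Ω' V) :
    sres h' (sres h s) = sres (h'.trans h) s :=
  mres_mres Ω' _ _ s

theorem sres_id {V : X.Opens} (h : V ≤ V) (s : Sec D Ω' V) : sres h s = s := M1.mres_id Ω' _ s

theorem sres_smul {V V' : X.Opens} (h : V' ≤ V) (c : Γ(X, V)) (s : Sec D Ω' V) :
    sres h (c • s) = (ores h c • sres h s : Sec D Ω' V') := by
  rw [sec_smul, sec_smul]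
  refine (mres_smul Ω' (inf_le_inf_right _ h) _ s).trans ?_
  rw [ores_ores, ores_ores]
  rfl

/-- A form without poles as a section with poles. -/
def inc (V : X.Opens) : Γ(Ω', V) →+ Sec D Ω' V := (M1.mres Ω' (inf_le_left : V ⊓ offD D ≤ V)).hom

theorem sres_inc {V V' : X.Opens} (h : V' ≤ V) (w : Γ(Ω', V)) :
    sres (D := D) h (inc V w) = inc V' (M1.mres Ω' h w) :=
  (mres_mres Ω' _ _ w).trans (mres_mres Ω' _ _ w).symm

theorem inc_smul {V : X.Opens} (c : Γ(X, V)) (w : Γ(Ω', V)) : inc (D := D) V (c • w) = c • inc V w :=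
  mres_smul Ω' _ c w

variable {W : X.affineOpens}

/-- The logarithmic differential of a generator. -/
def dlog (G : Prin D W) (i : Fin r) : Sec D Ω' W.1 :=
  ((G.isUnit i).unit⁻¹.val • inc W.1 (d.app W.1 (G.g i)) : Sec D Ω' W.1)

theorem smul_dlog (G : Prin D W) (i : Fin r) : G.g i • dlog d G i = inc W.1 (d.app W.1 (G.g i)) := by
  rw [sec_smul, dlog, smul_smul, IsUnit.mul_val_inv, one_smul]

theorem smul_cancel (G : Prin D W) (i : Fin r) {y z : Sec D Ω' W.1} (h : G.g i • y = G.g i • z) : y = z :=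
  (G.isUnit i).smul_left_cancel.1 h

theorem sres_dlog (G : Prin D W) {W' : X.affineOpens} (h : W'.1 ≤ W.1) (i : Fin r) :
    sres h (dlog d G i) = dlog d (G.mres h) i := by
  refine smul_cancel (G.mres h) i ?_
  rw [smul_dlog]
  show ores h (G.g i) • sres h (dlog d G i) = inc W'.1 (d.app W'.1 (ores h (G.g i)))
  rw [← sres_smul, smul_dlog, sres_inc]
  exact congrArg _ (Omega12.der_res f d h (G.g i)).symm

theorem exists_dlog_eq (G G' : Prin D W) (i : Fin r) :
    ∃ w : Γ(Ω', W.1), dlog d G i = dlog d G' i + inc W.1 w := by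
  obtain ⟨c, hc⟩ : ∃ c, c * G'.g i = G.g i :=
    Ideal.mem_span_singleton'.1 (by rw [← G'.hg i, G.hg i]; exact Ideal.mem_span_singleton_self _)
  obtain ⟨c', hc'⟩ : ∃ c', c' * G.g i = G'.g i :=
    Ideal.mem_span_singleton'.1 (by rw [← G.hg i, G'.hg i]; exact Ideal.mem_span_singleton_self _)
  refine ⟨c' • d.app W.1 c, smul_cancel G i ?_⟩
  rw [smul_dlog, smul_add, ← inc_smul, smul_smul]
  conv_rhs => enter [1]; rw [← hc, mul_smul, smul_dlog, ← inc_smul]
  rw [← map_add, mul_comm (G.g i) c', hc']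
  refine congrArg _ ?_
  conv_lhs => rw [← hc]
  exact d.d_mul (X := op W.1) c (G'.g i)

/-- `s` is decomposed on `W`. -/
def IsDec (G : Prin D W) (s : Sec D Ω' W.1) (w : Γ(Ω', W.1)) (a : Fin r → Γ(X, W.1)) : Prop :=
  s = inc W.1 w + ∑ i, a i • dlog d G i

variable {d}

theorem IsDec.mres {G : Prin D W} {s : Sec D Ω' W.1} {w : Γ(Ω', W.1)} {a : Fin r → Γ(X, W.1)}
    (H : IsDec d G s w a) {W' : X.affineOpens} (h : W'.1 ≤ W.1) :
    IsDec d (G.mres h) (sres h s) (M1.mres Ω' h w) fun i => ores h (a i) := by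
  rw [IsDec, H, map_add, map_sum, sres_inc]
  exact congrArg (_ + ·) (Finset.sum_congr rfl fun i _ => by rw [sres_smul, sres_dlog])

theorem IsDec.change {G : Prin D W} {s : Sec D Ω' W.1} {w : Γ(Ω', W.1)} {a : Fin r → Γ(X, W.1)}
    (H : IsDec d G s w a) (G' : Prin D W) : ∃ w', IsDec d G' s w' a := by
  choose v hv using fun i => exists_dlog_eq d G G' i
  refine ⟨w + ∑ i, a i • v i, ?_⟩
  rw [IsDec, H, map_add, map_sum, add_assoc, ← Finset.sum_add_distrib]
  exact congrArg (_ + ·) (Finset.sum_congr rfl fun i _ => by rw [hv, smul_add, inc_smul, add_comm])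

variable (d)

/-- Sections with at most logarithmic poles. -/
def Mem (V : X.Opens) (s : Sec D Ω' V) : Prop :=
  ∀ x ∈ V, ∃ (W : X.affineOpens) (h : W.1 ≤ V) (G : Prin D W) (w : Γ(Ω', W.1)) (a : Fin r → Γ(X, W.1)),
    x ∈ W.1 ∧ IsDec d G (sres h s) w a

variable {d}

theorem mem_of_dec {G : Prin D W} {s : Sec D Ω' W.1} {w : Γ(Ω', W.1)} {a : Fin r → Γ(X, W.1)}
    (H : IsDec d G s w a) : Mem d W.1 s := fun x hx => ⟨W, le_rfl, G, w, a, hx, by rw [sres_id]; exact H⟩

theorem mem_sres {V V' : X.Opens} (h : V' ≤ V) {s : Sec D Ω' V} (H : Mem d V s) : Mem d V' (sres h s) := by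
  intro x hx
  obtain ⟨W, hW, G, w, a, hxW, hdec⟩ := H x (h hx)
  obtain ⟨W', hW', hxW', hle⟩ := exists_isAffineOpen_mem_and_subset (U := W.1 ⊓ V') (x := x) ⟨hxW, hx⟩
  have hle : W' ≤ W.1 ⊓ V' := hle
  refine ⟨⟨W', hW'⟩, hle.trans inf_le_right, G.mres (hle.trans inf_le_left),
    M1.mres Ω' (hle.trans inf_le_left) w, fun i => ores (hle.trans inf_le_left) (a i), hxW', ?_⟩
  have := hdec.mres (W' := ⟨W', hW'⟩) (hle.trans inf_le_left)
  rw [sres_sres] at this ⊢
  exact this

theorem mem_add {V : X.Opens} {s s' : Sec D Ω' V} (H : Mem d V s) (H' : Mem d V s') : Mem d V (s + s') := by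
  intro x hx
  obtain ⟨W, hW, G, w, a, hxW, hdec⟩ := H x hx
  obtain ⟨W₂, hW₂, G₂, w₂, a₂, hxW₂, hdec₂⟩ := H' x hx
  obtain ⟨W', hW', hxW', hle⟩ := exists_isAffineOpen_mem_and_subset (U := W.1 ⊓ W₂.1) (x := x) ⟨hxW, hxW₂⟩
  have hle : W' ≤ W.1 ⊓ W₂.1 := hle
  let W'' : X.affineOpens := ⟨W', hW'⟩
  have h1 := hdec.mres (W' := W'') (hle.trans inf_le_left)
  obtain ⟨v, h2⟩ := (hdec₂.mres (W' := W'') (hle.trans inf_le_right)).change (G.mres (hle.trans inf_le_left))
  refine ⟨W'', hle.trans (inf_le_left.trans hW), G.mres (hle.trans inf_le_left),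
    M1.mres Ω' (hle.trans inf_le_left) w + v,
    (fun i => ores (hle.trans inf_le_left) (a i)) + fun i => ores (hle.trans inf_le_right) (a₂ i), hxW', ?_⟩
  rw [sres_sres] at h1 h2
  rw [IsDec, map_add, h1, h2]
  simp only [map_add, Pi.add_apply, add_smul, Finset.sum_add_distrib]
  abel

theorem mem_zero (hD : LogNCD.IsNCD D f) (V : X.Opens) : Mem d V (0 : Sec D Ω' V) := by
  intro x hx
  obtain ⟨O, hxO, hO⟩ := exists_principal hD x
  obtain ⟨W, hW, hxW, hle⟩ := exists_isAffineOpen_mem_and_subset (U := O ⊓ V) (x := x) ⟨hxO, hx⟩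
  have hle : W ≤ O ⊓ V := hle
  obtain ⟨g, hg⟩ := hO ⟨W, hW⟩ (hle.trans inf_le_left)
  refine ⟨⟨W, hW⟩, hle.trans inf_le_right, ⟨g, hg⟩, 0, 0, hxW, ?_⟩
  simp [IsDec]

theorem mem_smul {V : X.Opens} (c : Γ(X, V)) {s : Sec D Ω' V} (H : Mem d V s) : Mem d V (c • s) := by
  intro x hx
  obtain ⟨W, hW, G, w, a, hxW, hdec⟩ := H x hx
  refine ⟨W, hW, G, ores hW c • w, fun i => ores hW c * a i, hxW, ?_⟩
  rw [IsDec, sres_smul, hdec, smul_add, Finset.smul_sum, inc_smul]
  exact congrArg (_ + ·) (Finset.sum_congr rfl fun i _ => smul_smul _ _ _)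

variable (d) (hD : LogNCD.IsNCD D f)

/-- The sections of the log module. -/
def logSec (V : X.Opens) : Submodule Γ(X, V) (Sec D Ω' V) where
  carrier := {s | Mem d V s}
  add_mem' := mem_add
  zero_mem' := mem_zero hD V
  smul_mem' := fun c _ h => mem_smul c h

/-- Restriction on log sections. -/
def logRes {V V' : X.Opens} (h : V' ≤ V) : logSec d hD V →+ logSec d hD V' where
  toFun s := ⟨sres h s.1, mem_sres h s.2⟩
  map_zero' := Subtype.ext (map_zero _)
  map_add' s t := Subtype.ext (map_add _ s.1 t.1)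

/-- The presheaf of log sections. -/
def logAb : (Opens X)ᵒᵖ ⥤ AddCommGrpCat.{u} where
  obj V := AddCommGrpCat.of (logSec d hD V.unop)
  map i := AddCommGrpCat.ofHom (logRes d hD (leOfHom i.unop))
  map_id V := AddCommGrpCat.hom_ext (AddMonoidHom.ext fun s => Subtype.ext (sres_id _ s.1))
  map_comp i j := AddCommGrpCat.hom_ext (AddMonoidHom.ext fun s => Subtype.ext
    (sres_sres (leOfHom i.unop) (leOfHom j.unop) s.1).symm)

instance logAbModule (V : (Opens X)ᵒᵖ) :
    Module ((X.presheaf ⋙ forget₂ CommRingCat RingCat).obj V) ((logAb d hD).obj V) :=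
  inferInstanceAs (Module Γ(X, V.unop) (logSec d hD V.unop))

/-- The presheaf of modules of log sections. -/
def logPre : PresheafOfModules.{u} (X.presheaf ⋙ forget₂ CommRingCat RingCat) :=
  @PresheafOfModules.ofPresheaf _ _ (X.presheaf ⋙ forget₂ CommRingCat RingCat) (logAb d hD) (logAbModule d hD)
    (fun _ _ i c s => Subtype.ext (sres_smul (leOfHom i.unop) c s.1))

theorem isSheaf_logAb : Presheaf.IsSheaf (Opens.grothendieckTopology X) (logAb d hD) := by
  refine (TopCat.Presheaf.isSheaf_iff_isSheafUniqueGluing (X := X.toTopCat) _).2 fun ι V s hs => ?_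
  have hV : ∀ j, V j ≤ iSup V := fun j => le_iSup V j
  obtain ⟨t, ht, huniq⟩ := TopCat.Sheaf.existsUnique_gluing' ⟨_, Ω'.isSheaf⟩ (fun j => V j ⊓ offD D) (iSup V ⊓ offD D)
    (fun j => homOfLE (inf_le_inf_right _ (hV j))) (by rw [iSup_inf_eq]) (fun j => (s j).1) fun i j => by
      have h1 : (sres inf_le_left (s i).1 : Sec D Ω' (V i ⊓ V j)) = sres inf_le_right (s j).1 :=
        congrArg Subtype.val (hs i j)
      have h2 : (V i ⊓ offD D) ⊓ (V j ⊓ offD D) ≤ (V i ⊓ V j) ⊓ offD D :=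
        le_inf (le_inf (inf_le_left.trans inf_le_left) (inf_le_right.trans inf_le_left)) (inf_le_left.trans inf_le_right)
      have h3 := congrArg (M1.mres Ω' h2) h1
      exact ((mres_mres Ω' _ _ (s i).1).symm.trans h3).trans (mres_mres Ω' _ _ (s j).1)
  have hmem : Mem d (iSup V) (t : Sec D Ω' (iSup V)) := fun x hx => by
    obtain ⟨j, hj⟩ := Opens.mem_iSup.1 hx
    obtain ⟨W, hW, G, w, a, hxW, hdec⟩ := (s j).2 x hj
    refine ⟨W, hW.trans (hV j), G, w, a, hxW, ?_⟩
    rw [← sres_sres (hV j) hW]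
    rw [show sres (hV j) (t : Sec D Ω' (iSup V)) = (s j).1 from ht j]
    exact hdec
  exact ⟨⟨t, hmem⟩, fun j => Subtype.ext (ht j), fun y hy =>
    Subtype.ext (huniq y.1 fun j => congrArg Subtype.val (hy j))⟩

/-- The log module. -/
def logMod : X.Modules := ⟨logPre d hD, isSheaf_logAb d hD⟩

/-- The inclusion of the forms without poles. -/
def logι : Ω' ⟶ logMod d hD :=
  ⟨PresheafOfModules.homMk
    { app := fun V => AddCommGrpCat.ofHom (AddMonoidHom.mk' (fun w =>
          (⟨inc V.unop w, fun x hx => by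
            obtain ⟨O, hxO, hO⟩ := exists_principal hD x
            obtain ⟨W, hW, hxW, hle⟩ := exists_isAffineOpen_mem_and_subset (U := O ⊓ V.unop) (x := x) ⟨hxO, hx⟩
            have hle : W ≤ O ⊓ V.unop := hle
            obtain ⟨g, hg⟩ := hO ⟨W, hW⟩ (hle.trans inf_le_left)
            exact ⟨⟨W, hW⟩, hle.trans inf_le_right, ⟨g, hg⟩, M1.mres Ω' (hle.trans inf_le_right) w, 0, hxW, by
              simp [IsDec]; exact sres_inc _ w⟩⟩ : logSec d hD V.unop))
          fun a b => Subtype.ext (map_add _ a b))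
      naturality := fun V V' i => by
        ext w
        exact Subtype.ext (sres_inc (leOfHom i.unop) w).symm }
    (fun V c w => Subtype.ext (inc_smul c w))⟩

variable (hd : OmegaSh.IsUniversal d)

include hd hD in
theorem inc_injective {V : X.Opens} {w : Γ(Ω', V)} (h : inc (D := D) V w = 0) : w = 0 := by
  have hW := fun p : {p // p ∈ V} => exists_nice hd hD p.1 V p.2
  choose W hxW hWV N using hW
  refine modules_eq_of_locally_eq Ω' V (fun p => (W p).1) hWV
    (fun p hp => Opens.mem_iSup.2 ⟨⟨p, hp⟩, hxW ⟨p, hp⟩⟩) _ _ fun p => ?_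
  rw [map_zero]
  refine (N p).some.inj _ ?_
  rw [show M1.mres Ω' inf_le_left (M1.mres Ω' (hWV p) w) = inc (D := D) (W p).1 (M1.mres Ω' (hWV p) w) from rfl,
    ← sres_inc, h, map_zero]

include hd hD in
/-- The coefficients of the logarithmic differentials are unique modulo the components. -/
theorem coeff_unique {W₁ W₂ : X.affineOpens} {V : X.Opens} (h₁ : W₁.1 ≤ V) (h₂ : W₂.1 ≤ V) {s : Sec D Ω' V}
    {G₁ : Prin D W₁} {w₁ : Γ(Ω', W₁.1)} {a₁ : Fin r → Γ(X, W₁.1)} (H₁ : IsDec d G₁ (sres h₁ s) w₁ a₁)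
    {G₂ : Prin D W₂} {w₂ : Γ(Ω', W₂.1)} {a₂ : Fin r → Γ(X, W₂.1)} (H₂ : IsDec d G₂ (sres h₂ s) w₂ a₂) (i : Fin r) :
    M1.mres (ClSub.quotMod (D i)) (inf_le_left : W₁.1 ⊓ W₂.1 ≤ W₁.1)
        ((ClSub.toSubscheme (D i)).app W₁.1 (OmegaSh.strSect X W₁.1 (a₁ i))) =
      M1.mres (ClSub.quotMod (D i)) inf_le_right
        ((ClSub.toSubscheme (D i)).app W₂.1 (OmegaSh.strSect X W₂.1 (a₂ i))) := by
  classical
  have hW := fun p : {p // p ∈ W₁.1 ⊓ W₂.1} => exists_nice hd hD p.1 _ p.2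
  choose W hxW hWle N using hW
  refine modules_eq_of_locally_eq _ _ (fun p => (W p).1) hWle
    (fun p hp => Opens.mem_iSup.2 ⟨⟨p, hp⟩, hxW ⟨p, hp⟩⟩) _ _ fun p => ?_
  let Np := (N p).some
  have l₁ : (W p).1 ≤ W₁.1 := (hWle p).trans inf_le_left
  have l₂ : (W p).1 ≤ W₂.1 := (hWle p).trans inf_le_right
  let G : Prin D (W p) := ⟨Np.g, Np.hg⟩
  obtain ⟨v₁, e₁⟩ := (H₁.mres l₁).change G
  obtain ⟨v₂, e₂⟩ := (H₂.mres l₂).change G
  rw [sres_sres] at e₁ e₂
  have e : inc (D := D) (W p).1 (v₁ - v₂) + ∑ j, (ores l₁ (a₁ j) - ores l₂ (a₂ j)) • dlog d G j = 0 := by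
    simp only [map_sub, sub_smul, Finset.sum_sub_distrib]
    rw [← sub_eq_zero.2 (e₁.symm.trans e₂)]
    abel
  have key := Np.coeff (v₁ - v₂) (fun j => ores l₁ (a₁ j) - ores l₂ (a₂ j)) (inc_injective d hD hd (by
    rw [map_add, map_sum, inc_smul]
    have e' := congrArg (fun z => (∏ j, Np.g j) • z) e
    simp only [smul_add, Finset.smul_sum, smul_zero] at e'
    refine Eq.trans (congrArg (_ + ·) (Finset.sum_congr rfl fun j _ => ?_)) e'
    rw [inc_smul, show d.app (W p).1 (Np.g j) = d.app (W p).1 (G.g j) from rfl, ← smul_dlog d G j, smul_smul,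
      smul_smul, ← Finset.prod_erase_mul _ _ (Finset.mem_univ j)]
    congr 1
    show _ * Np.g j = _
    ring)) i
  rw [mres_mres, mres_mres, ← app_mres, ← app_mres, ← sub_eq_zero, ← map_sub]
  exact (toSubscheme_eq_zero_iff _ _ _).2 key

variable {V : X.Opens}

/-- `t` is the residue of `s` along the `i`-th component. -/
def IsRes (i : Fin r) (V : X.Opens) (s : Sec D Ω' V) (t : Γ(ClSub.quotMod (D i), V)) : Prop :=
  ∀ (W : X.affineOpens) (h : W.1 ≤ V) (G : Prin D W) (w : Γ(Ω', W.1)) (a : Fin r → Γ(X, W.1)),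
    IsDec d G (sres h s) w a →
      M1.mres _ h t = (ClSub.toSubscheme (D i)).app W.1 (OmegaSh.strSect X W.1 (a i))

theorem isRes_unique {i : Fin r} {s : logSec d hD V} {t t' : Γ(ClSub.quotMod (D i), V)}
    (H : IsRes d i V s.1 t) (H' : IsRes d i V s.1 t') : t = t' := by
  choose W hW G w a hxW hdec using fun p : {p // p ∈ V} => s.2 p.1 p.2
  refine modules_eq_of_locally_eq _ V (fun p => (W p).1) hW
    (fun p hp => Opens.mem_iSup.2 ⟨⟨p, hp⟩, hxW ⟨p, hp⟩⟩) _ _ fun p => ?_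
  exact (H _ _ _ _ _ (hdec p)).trans (H' _ _ _ _ _ (hdec p)).symm

include hd in
theorem exists_isRes (i : Fin r) (s : logSec d hD V) : ∃ t, IsRes d i V s.1 t := by
  choose W hW G w a hxW hdec using fun p : {p // p ∈ V} => s.2 p.1 p.2
  have hcov : V ≤ ⨆ p, (W p).1 := fun p hp => Opens.mem_iSup.2 ⟨⟨p, hp⟩, hxW ⟨p, hp⟩⟩
  obtain ⟨t, ht, -⟩ := TopCat.Sheaf.existsUnique_gluing' ⟨_, (ClSub.quotMod (D i)).isSheaf⟩ (fun p => (W p).1) V
    (fun p => homOfLE (hW p)) hcov
    (fun p => (ClSub.toSubscheme (D i)).app (W p).1 (OmegaSh.strSect X (W p).1 (a p i)))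
    fun p q => coeff_unique d hD hd (hW p) (hW q) (hdec p) (hdec q) i
  refine ⟨t, fun W' h' G' w' a' hdec' => ?_⟩
  refine modules_eq_of_locally_eq _ W'.1 (fun p => W'.1 ⊓ (W p).1) (fun p => inf_le_left)
    (by rw [← inf_iSup_eq]; exact le_inf le_rfl (h'.trans hcov)) _ _ fun p => ?_
  have e := coeff_unique d hD hd h' (hW p) hdec' (hdec p) i
  have ht' : M1.mres (ClSub.quotMod (D i)) (hW p) t =
      (ClSub.toSubscheme (D i)).app (W p).1 (OmegaSh.strSect X (W p).1 (a p i)) := ht p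
  rw [← ht', mres_mres] at e
  rw [mres_mres]
  exact e.symm

/-- The residue on sections. -/
def resFun (i : Fin r) (V : X.Opens) (s : logSec d hD V) : Γ(ClSub.quotMod (D i), V) :=
  (exists_isRes d hD hd i s).choose

theorem resFun_spec (i : Fin r) (V : X.Opens) (s : logSec d hD V) : IsRes d i V s.1 (resFun d hD hd i V s) :=
  (exists_isRes d hD hd i s).choose_spec

theorem resFun_eq (i : Fin r) {V : X.Opens} (s : logSec d hD V) {t : Γ(ClSub.quotMod (D i), V)}
    (h : IsRes d i V s.1 t) : resFun d hD hd i V s = t :=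
  isRes_unique d hD (resFun_spec d hD hd i V s) h

theorem resFun_mres (i : Fin r) {V V' : X.Opens} (h : V' ≤ V) (s : logSec d hD V) :
    resFun d hD hd i V' (logRes d hD h s) = M1.mres _ h (resFun d hD hd i V s) :=
  resFun_eq d hD hd i _ fun W hW G w a hdec => by
    rw [mres_mres]
    exact resFun_spec d hD hd i V s W _ G w a (by rwa [← sres_sres h hW])

theorem resFun_eq_of_dec (i : Fin r) {W : X.affineOpens} (G : Prin D W) (s : logSec d hD W.1) (w : Γ(Ω', W.1))
    (a : Fin r → Γ(X, W.1)) (H : IsDec d G s.1 w a) :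
    resFun d hD hd i W.1 s = (ClSub.toSubscheme (D i)).app W.1 (OmegaSh.strSect X W.1 (a i)) := by
  have h := resFun_spec d hD hd i W.1 s W le_rfl G w a (by rw [sres_id]; exact H)
  rwa [M1.mres_id] at h

theorem resFun_add (i : Fin r) (V : X.Opens) (s s' : logSec d hD V) :
    resFun d hD hd i V (s + s') = resFun d hD hd i V s + resFun d hD hd i V s' := by
  have hW : ∀ p : {p // p ∈ V}, ∃ (W : X.affineOpens) (hW : W.1 ≤ V) (G : Prin D W) (w w' : Γ(Ω', W.1))
      (a a' : Fin r → Γ(X, W.1)), p.1 ∈ W.1 ∧ IsDec d G (sres hW s.1) w a ∧ IsDec d G (sres hW s'.1) w' a' := by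
    intro p
    obtain ⟨W, hW, G, w, a, hxW, hdec⟩ := s.2 p.1 p.2
    obtain ⟨W₂, hW₂, G₂, w₂, a₂, hxW₂, hdec₂⟩ := s'.2 p.1 p.2
    obtain ⟨W', hW', hxW', hle⟩ := exists_isAffineOpen_mem_and_subset (U := W.1 ⊓ W₂.1) (x := p.1) ⟨hxW, hxW₂⟩
    have hle : W' ≤ W.1 ⊓ W₂.1 := hle
    have h1 := hdec.mres (W' := ⟨W', hW'⟩) (hle.trans inf_le_left)
    obtain ⟨v, h2⟩ := (hdec₂.mres (W' := ⟨W', hW'⟩) (hle.trans inf_le_right)).change (G.mres (hle.trans inf_le_left))
    rw [sres_sres] at h1 h2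
    exact ⟨⟨W', hW'⟩, hle.trans (inf_le_left.trans hW), _, _, _, _, _, hxW', h1, h2⟩
  choose W hW G w w' a a' hxW hd₁ hd₂ using hW
  refine modules_eq_of_locally_eq _ V (fun p => (W p).1) hW
    (fun p hp => Opens.mem_iSup.2 ⟨⟨p, hp⟩, hxW ⟨p, hp⟩⟩) _ _ fun p => ?_
  rw [map_add, resFun_spec d hD hd i V s _ (hW p) _ _ _ (hd₁ p), resFun_spec d hD hd i V s' _ (hW p) _ _ _ (hd₂ p),
    resFun_spec d hD hd i V (s + s') _ (hW p) (G p) (w p + w' p) (a p + a' p) (by
      show sres (hW p) (s.1 + s'.1) = _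
      rw [map_add, hd₁ p, hd₂ p]
      simp only [map_add, Pi.add_apply, add_smul, Finset.sum_add_distrib]
      abel), ← map_add]
  rfl

theorem resFun_smul (i : Fin r) (V : X.Opens) (c : Γ(X, V)) (s : logSec d hD V) :
    resFun d hD hd i V (c • s) = c • resFun d hD hd i V s := by
  choose W hW G w a hxW hdec using fun p : {p // p ∈ V} => s.2 p.1 p.2
  refine modules_eq_of_locally_eq _ V (fun p => (W p).1) hW
    (fun p hp => Opens.mem_iSup.2 ⟨⟨p, hp⟩, hxW ⟨p, hp⟩⟩) _ _ fun p => ?_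
  rw [mres_smul, resFun_spec d hD hd i V s _ (hW p) _ _ _ (hdec p),
    resFun_spec d hD hd i V (c • s) _ (hW p) (G p) (ores (hW p) c • w p) (fun j => ores (hW p) c * a p j) (by
      show sres (hW p) (c • s.1) = _
      rw [sres_smul, hdec p, smul_add, Finset.smul_sum, inc_smul]
      exact congrArg (_ + ·) (Finset.sum_congr rfl fun j _ => smul_smul _ _ _))]
  exact Scheme.Modules.Hom.app_smul (ClSub.toSubscheme (D i)) (ores (hW p) c) (OmegaSh.strSect X (W p).1 (a p i))

/-- The residue maps. -/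
def logResidue (i : Fin r) : logMod d hD ⟶ ClSub.quotMod (D i) :=
  ⟨PresheafOfModules.homMk
    { app := fun V => AddCommGrpCat.ofHom
        (AddMonoidHom.mk' (resFun d hD hd i V.unop) (resFun_add d hD hd i V.unop))
      naturality := fun V V' e => by
        ext s
        exact resFun_mres d hD hd i (leOfHom e.unop) s }
    (fun V c s => resFun_smul d hD hd i V.unop c s)⟩

/-- The log module exists. -/
theorem nonempty_logMod (hD : LogNCD.IsNCD D f) (hd : OmegaSh.IsUniversal d) : Nonempty (LogNCD.LogMod d D) := by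
  classical
  have hmono : Mono (logι d hD) := (M1.mono_iff_app _).2 fun V => by
    refine (injective_iff_map_eq_zero _).2 fun w hw => ?_
    exact inc_injective d hD hd (congrArg Subtype.val hw)
  refine ⟨{ L := logMod d hD, ι := logι d hD, res := logResidue d hD hd, mono := hmono, res_ι := fun i => ?_,
            rule := fun W g hg => ?_ }⟩
  · refine Scheme.Modules.hom_ext _ _ fun V => ?_
    ext w
    refine resFun_eq d hD hd i _ fun W h G v a hdec => ?_
    refine (map_zero (M1.mres (ClSub.quotMod (D i)) h).hom).trans ?_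
    have h0 : IsDec d G (sres h (inc V w)) (M1.mres Ω' h w) 0 := by simp [IsDec, sres_inc]
    have e := coeff_unique d hD hd h h hdec h0 i
    rw [Pi.zero_apply, map_zero, map_zero, map_zero] at e
    symm
    rw [← M1.mres_id _ (le_rfl : W.1 ≤ W.1) ((ClSub.toSubscheme (D i)).app W.1 (OmegaSh.strSect X W.1 (a i))),
      ← mres_mres _ (inf_le_left : W.1 ⊓ W.1 ≤ W.1) (le_inf le_rfl le_rfl), e, map_zero]
  let G : Prin D W := ⟨g, hg⟩
  have hdl : ∀ i, IsDec d G (dlog d G i) 0 (Pi.single i 1) := fun i => by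
    simp [IsDec, Pi.single_apply]
  let dl : Fin r → logSec d hD W.1 := fun i => ⟨dlog d G i, mem_of_dec (hdl i)⟩
  refine ⟨fun (x : logSec d hD W.1) hx => ?_, dl, fun i => Subtype.ext (smul_dlog d G i), ?_, fun i => ?_,
    fun i j hij => ?_⟩
  · refine Subtype.ext ?_
    have hx' : (∏ i, g i) • x.1 = 0 := congrArg Subtype.val hx
    have hu : IsUnit (ores (inf_le_left : W.1 ⊓ offD D ≤ W.1) (∏ i, g i)) := by
      rw [map_prod]
      exact (IsUnit.prod_iff).2 fun i _ => G.isUnit i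
    exact hu.smul_eq_zero.1 hx'
  · refine Submodule.eq_top_iff'.2 fun (s : logSec d hD W.1) => ?_
    -- lift the residues
    choose a ha using fun i => (D i).subschemeι_app_surjective W (resFun d hD hd i W.1 s)
    let s' : logSec d hD W.1 := s - ∑ i, (show Γ(X, W.1) from a i) • dl i
    choose W₁ hW₁ G₁ w₁ a₁ hxW₁ hdec₁ using fun p : {p // p ∈ W.1} => s.2 p.1 p.2
    have hloc : ∀ p, ∃ v : Γ(Ω', (W₁ p).1), inc (W₁ p).1 v = sres (hW₁ p) s'.1 := fun p => by
      obtain ⟨v, hv⟩ := (hdec₁ p).change (G.mres (hW₁ p))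
      have hker : ∀ j, ∃ u : Γ(Ω', (W₁ p).1),
          (a₁ p j - ores (hW₁ p) (a j)) • dlog d (G.mres (hW₁ p)) j = inc (W₁ p).1 u := fun j => by
        have hmem : a₁ p j - ores (hW₁ p) (a j) ∈ (D j).ideal (W₁ p) := by
          refine (toSubscheme_eq_zero_iff _ _ _).1 ?_
          rw [map_sub, map_sub, ← resFun_spec d hD hd j W.1 s _ (hW₁ p) _ _ _ (hdec₁ p), ← ha j, sub_eq_zero]
          exact (app_mres (ClSub.toSubscheme (D j)) (hW₁ p) (OmegaSh.strSect X W.1 (a j))).symm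
        rw [(G.mres (hW₁ p)).hg j, Ideal.mem_span_singleton'] at hmem
        obtain ⟨b, hb⟩ := hmem
        exact ⟨b • d.app (W₁ p).1 ((G.mres (hW₁ p)).g j), by rw [← hb, mul_smul, smul_dlog, inc_smul]⟩
      choose u hu using hker
      refine ⟨v + ∑ j, u j, ?_⟩
      rw [map_add, map_sum]
      show _ = sres (hW₁ p) (s'.1)
      rw [show s'.1 = s.1 - ∑ j, (show Γ(X, W.1) from a j) • dlog d G j by
        simp [s', dl], map_sub, hv, map_sum]
      simp only [sres_smul, sres_dlog, ← hu, sub_smul, Finset.sum_sub_distrib]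
      abel
    choose v hv using hloc
    have hcov : W.1 ≤ ⨆ p, (W₁ p).1 := fun p hp => Opens.mem_iSup.2 ⟨⟨p, hp⟩, hxW₁ ⟨p, hp⟩⟩
    obtain ⟨w, hw, -⟩ := TopCat.Sheaf.existsUnique_gluing' ⟨_, Ω'.isSheaf⟩ (fun p => (W₁ p).1) W.1
      (fun p => homOfLE (hW₁ p)) hcov v fun p q => by
        show M1.mres Ω' (inf_le_left : (W₁ p).1 ⊓ (W₁ q).1 ≤ _) (v p) = M1.mres Ω' inf_le_right (v q)
        refine sub_eq_zero.1 (inc_injective d hD hd ?_)
        rw [map_sub, ← sres_inc, ← sres_inc, hv, hv, sres_sres, sres_sres, sub_self]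
    have hs' : s' = ((logι d hD).app W.1 w : logSec d hD W.1) := by
      refine Subtype.ext ?_
      show s'.1 = inc W.1 w
      refine modules_eq_of_locally_eq Ω' (W.1 ⊓ offD D) (fun p => (W₁ p).1 ⊓ offD D)
        (fun p => inf_le_inf_right _ (hW₁ p)) (by rw [← iSup_inf_eq]; exact inf_le_inf_right _ hcov) _ _ fun p => ?_
      have hw' : M1.mres Ω' (hW₁ p) w = v p := hw p
      show sres (hW₁ p) s'.1 = sres (hW₁ p) (inc W.1 w)
      rw [← hv, sres_inc, hw']
    let ω₀ : logSec d hD W.1 := (logι d hD).app W.1 w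
    rw [show s = ω₀ + ∑ i, (show Γ(X, W.1) from a i) • dl i by
      show s = ω₀ + _
      rw [show ω₀ = s' from hs'.symm]; exact (sub_add_cancel _ _).symm]
    refine Submodule.add_mem _ (Submodule.subset_span (Or.inl ⟨w, rfl⟩))
      (Submodule.sum_mem _ fun i _ => Submodule.smul_mem _ _ (Submodule.subset_span (Or.inr ⟨i, rfl⟩)))
  · refine (resFun_eq_of_dec d hD hd i G (dl i) 0 _ (hdl i)).trans ?_
    rw [Pi.single_eq_same]
    rfl
  · refine (resFun_eq_of_dec d hD hd j G (dl i) 0 _ (hdl i)).trans ?_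
    rw [Pi.single_eq_of_ne (Ne.symm hij), map_zero, map_zero]

end Groth.Agent.LogNCD28
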