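import Groth.Agent.Lib.LogNCD28.Lift

/-!
# Charts on which a pair (smooth scheme, normal crossing divisor) is standard étale over affine space
-/

universe u

open CategoryTheory CategoryTheory.Limits AlgebraicGeometry Opposite TopologicalSpace

set_option backward.isDefEq.respectTransparency false
set_option backward.isDefEq.respectTransparency.types false
set_option linter.style.haveILetI false
set_option maxHeartbeats 1000000

namespace Groth.Agent.LogNCD28

variable {X S : Scheme.{u}} {f : X ⟶ S} {r : ℕ}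

theorem mem_basicOpen_of_notMem {W : X.Opens} (hW : IsAffineOpen W) {x : X} (hx : x ∈ W) {b : Γ(X, W)}
    (hb : b ∉ (hW.primeIdealOf ⟨x, hx⟩).asIdeal) : x ∈ X.basicOpen b := by
  have h : hW.primeIdealOf ⟨x, hx⟩ ∈ hW.fromSpec ⁻¹ᵁ X.basicOpen b := by
    rw [hW.fromSpec_preimage_basicOpen b]
    exact hb
  have h' : hW.fromSpec (hW.primeIdealOf ⟨x, hx⟩) ∈ X.basicOpen b := h
  rw [hW.fromSpec_primeIdealOf ⟨x, hx⟩] at h'
  exact h'

/-- Transfer of a standard étale structure on a localization to a basic open. -/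
theorem exists_chart_of_away {V : S.Opens} {W : X.Opens} (hW : IsAffineOpen W) (hWV : W ≤ f ⁻¹ᵁ V) (b : Γ(X, W))
    {n : ℕ} [Algebra (MvPolynomial (Fin n) Γ(S, V)) (Localization.Away b)]
    [Algebra.IsStandardEtale (MvPolynomial (Fin n) Γ(S, V)) (Localization.Away b)]
    (hC : ∀ s : Γ(S, V), algebraMap (MvPolynomial (Fin n) Γ(S, V)) (Localization.Away b) (MvPolynomial.C s) =
      algebraMap Γ(X, W) (Localization.Away b) (f.appLE V W hWV s)) :
    ∃ φ : MvPolynomial (Fin n) Γ(S, V) →+* Γ(X, X.basicOpen b),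
      φ.comp MvPolynomial.C = (f.appLE V (X.basicOpen b) ((X.basicOpen_le b).trans hWV)).hom ∧
      @Algebra.IsStandardEtale (MvPolynomial (Fin n) Γ(S, V)) Γ(X, X.basicOpen b) _ _ φ.toAlgebra ∧
      ∀ (t : MvPolynomial (Fin n) Γ(S, V)) (s : Γ(X, W)),
        algebraMap _ (Localization.Away b) t = algebraMap Γ(X, W) (Localization.Away b) s →
          φ t = X.presheaf.map (homOfLE (X.basicOpen_le b)).op s := by
  letI : Algebra Γ(X, W) Γ(X, X.basicOpen b) := (X.presheaf.map (homOfLE (X.basicOpen_le b)).op).hom.toAlgebra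
  haveI : IsLocalization.Away b Γ(X, X.basicOpen b) := hW.isLocalization_basicOpen b
  let e : Localization.Away b ≃ₐ[Γ(X, W)] Γ(X, X.basicOpen b) := IsLocalization.algEquiv (.powers b) _ _
  let φ : MvPolynomial (Fin n) Γ(S, V) →+* Γ(X, X.basicOpen b) :=
    e.toRingEquiv.toRingHom.comp (algebraMap _ (Localization.Away b))
  letI : Algebra (MvPolynomial (Fin n) Γ(S, V)) Γ(X, X.basicOpen b) := φ.toAlgebra
  let e' : Localization.Away b ≃ₐ[MvPolynomial (Fin n) Γ(S, V)] Γ(X, X.basicOpen b) :=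
    AlgEquiv.ofRingEquiv (f := e.toRingEquiv) fun _ => rfl
  have hφ : ∀ (t : MvPolynomial (Fin n) Γ(S, V)) (s : Γ(X, W)),
      algebraMap _ (Localization.Away b) t = algebraMap Γ(X, W) (Localization.Away b) s →
        φ t = X.presheaf.map (homOfLE (X.basicOpen_le b)).op s := by
    intro t s h
    show e (algebraMap _ (Localization.Away b) t) = _
    rw [h, e.commutes]
    rfl
  refine ⟨φ, RingHom.ext fun s => ?_, Algebra.IsStandardEtale.of_equiv e', hφ⟩
  rw [RingHom.comp_apply, hφ _ _ (hC s), ← CategoryTheory.comp_apply, Scheme.Hom.appLE_map]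

theorem exists_chart [Smooth f] (D : Fin r → X.IdealSheafData) (hD : LogNCD.IsNCD D f) {V : S.Opens}
    (hV : IsAffineOpen V) {x : X} (hx : f x ∈ V) :
    ∃ (U : X.Opens) (hU : IsAffineOpen U) (hUV : U ≤ f ⁻¹ᵁ V) (n : ℕ) (k : Fin r → Option (Fin n))
      (φ : MvPolynomial (Fin n) Γ(S, V) →+* Γ(X, U)),
      x ∈ U ∧ φ.comp MvPolynomial.C = (f.appLE V U hUV).hom ∧
      @Algebra.IsStandardEtale (MvPolynomial (Fin n) Γ(S, V)) Γ(X, U) _ _ φ.toAlgebra ∧
      ∀ m, (D m).ideal ⟨U, hU⟩ = Ideal.span {(k m).elim 1 fun i => φ (MvPolynomial.X i)} := by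
  classical
  by_cases hne : Nonempty (LogNCD.Through D x)
  · obtain ⟨O, hxO, n, v, e, -, het, h1, h2⟩ := hD x hne
    obtain ⟨W, hW, hxW, hWle⟩ := exists_isAffineOpen_mem_and_subset (U := O ⊓ f ⁻¹ᵁ V) (x := x) ⟨hxO, hx⟩
    have hWle : W ≤ O ⊓ f ⁻¹ᵁ V := hWle
    have hWO : W ≤ O := hWle.trans inf_le_left
    have hWV : W ≤ f ⁻¹ᵁ V := hWle.trans inf_le_right
    let w : ULift.{u} (Fin n) → Γ(X, W) := fun j => LogNCD.sectOn O hWO (v j)
    haveI := het
    have hE : Etale (AffineSpace.homOfVector (W.ι ≫ f) (fun j => W.topIso.inv (w j))) := by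
      have e : AffineSpace.homOfVector (W.ι ≫ f) (fun j => W.topIso.inv (w j)) =
          X.homOfLE hWO ≫ AffineSpace.homOfVector (O.ι ≫ f) v := by
        refine AffineSpace.hom_ext ?_ fun j => ?_
        · rw [Category.assoc, AffineSpace.homOfVector_over, AffineSpace.homOfVector_over, ← Category.assoc,
            Scheme.homOfLE_ι]
        · rw [AffineSpace.homOfVector_appTop_coord, Scheme.Hom.comp_appTop, CategoryTheory.comp_apply,
            AffineSpace.homOfVector_appTop_coord]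
          simp only [w, LogNCD.sectOn_apply, Scheme.homOfLE_appTop, Scheme.Opens.topIso_hom,
            Scheme.Opens.topIso_inv, ← CategoryTheory.comp_apply, ← Functor.map_comp]
          rfl
      rw [e]
      infer_instance
    have hEt := KummerTame25.etale_eval₂Hom f hV hW hWV w hE
    letI : Algebra Γ(S, V) Γ(X, W) := (f.appLE V W hWV).hom.toAlgebra
    let z : Fin n → Γ(X, W) := fun i => w (ULift.up i)
    have hz : ((MvPolynomial.aeval z : MvPolynomial (Fin n) Γ(S, V) →ₐ[Γ(S, V)] Γ(X, W)).toRingHom).Etale := by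
      have e : ((MvPolynomial.aeval z : MvPolynomial (Fin n) Γ(S, V) →ₐ[Γ(S, V)] Γ(X, W)).toRingHom) =
          (MvPolynomial.eval₂Hom (f.appLE V W hWV).hom w).comp
            (MvPolynomial.renameEquiv Γ(S, V) (Equiv.ulift.{u}.symm : Fin n ≃ ULift.{u} (Fin n))).toRingEquiv.toRingHom := by
        refine MvPolynomial.ringHom_ext (fun c => ?_) fun i => ?_
        · simp [RingHom.algebraMap_toAlgebra]
        · simp [z]
      rw [e]
      exact RingHom.Etale.respectsIso.2 _ _ hEt
    letI : Algebra (MvPolynomial (Fin n) Γ(S, V)) Γ(X, W) :=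
      (MvPolynomial.aeval z : MvPolynomial (Fin n) Γ(S, V) →ₐ[Γ(S, V)] Γ(X, W)).toRingHom.toAlgebra
    haveI : Algebra.Etale (MvPolynomial (Fin n) Γ(S, V)) Γ(X, W) := hz
    let P := (hW.primeIdealOf ⟨x, hxW⟩).asIdeal
    haveI : Algebra.IsEtaleAt (MvPolynomial (Fin n) Γ(S, V)) P :=
      Algebra.FormallyEtale.comp _ Γ(X, W) _
    obtain ⟨b, hb, hst⟩ := Algebra.IsEtaleAt.exists_isStandardEtale (R := MvPolynomial (Fin n) Γ(S, V)) P
    haveI := hst
    obtain ⟨φ, hφC, hφs, hφ⟩ := exists_chart_of_away hW hWV b (n := n) fun s => by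
      rw [IsScalarTower.algebraMap_apply (MvPolynomial (Fin n) Γ(S, V)) Γ(X, W) (Localization.Away b)]
      congr 1
      simp [RingHom.algebraMap_toAlgebra]
    refine ⟨X.basicOpen b, hW.basicOpen b, (X.basicOpen_le b).trans hWV, n,
      fun m => if hm : x ∈ (D m).support then some (e ⟨m, hm⟩) else none, φ,
      mem_basicOpen_of_notMem hW hxW hb, hφC, hφs, fun m => ?_⟩
    by_cases hm : x ∈ (D m).support
    · simp only [dif_pos hm, Option.elim]
      rw [h1 ⟨m, hm⟩ ⟨_, hW.basicOpen b⟩ ((X.basicOpen_le b).trans hWO),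
        hφ (MvPolynomial.X (e ⟨m, hm⟩)) (z (e ⟨m, hm⟩)) ?_]
      · congr 2
        simp only [z, w, LogNCD.sectOn_apply, ← CategoryTheory.comp_apply, Category.assoc, ← Functor.map_comp]
        rfl
      · rw [IsScalarTower.algebraMap_apply (MvPolynomial (Fin n) Γ(S, V)) Γ(X, W) (Localization.Away b)]
        congr 1
        simp [RingHom.algebraMap_toAlgebra]
    · simp only [dif_neg hm, Option.elim]
      rw [h2 m hm ⟨_, hW.basicOpen b⟩ ((X.basicOpen_le b).trans hWO), Ideal.span_singleton_one]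
  · have hxoff : x ∈ offD D := fun h => by
      obtain ⟨i, hi⟩ := Set.mem_iUnion.1 h
      exact hne ⟨⟨i, hi⟩⟩
    obtain ⟨W, hW, hxW, hWle⟩ := exists_isAffineOpen_mem_and_subset (U := offD D ⊓ f ⁻¹ᵁ V) (x := x) ⟨hxoff, hx⟩
    have hWle : W ≤ offD D ⊓ f ⁻¹ᵁ V := hWle
    have hWV : W ≤ f ⁻¹ᵁ V := hWle.trans inf_le_right
    letI : Algebra Γ(S, V) Γ(X, W) := (f.appLE V W hWV).hom.toAlgebra
    haveI : Algebra.Smooth Γ(S, V) Γ(X, W) := f.smooth_appLE hV hW hWV
    let P := (hW.primeIdealOf ⟨x, hxW⟩).asIdeal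
    haveI : Algebra.IsSmoothAt Γ(S, V) P := Algebra.FormallySmooth.comp _ Γ(X, W) _
    obtain ⟨b, hb, n, alg, htow, hst⟩ :=
      Algebra.IsSmoothAt.exists_isStandardEtale_mvPolynomial (R := Γ(S, V)) (p := P)
    haveI := hst
    obtain ⟨φ, hφC, hφs, -⟩ := exists_chart_of_away hW hWV b (n := n) fun s => by
      rw [← MvPolynomial.algebraMap_eq, ← IsScalarTower.algebraMap_apply,
        IsScalarTower.algebraMap_apply Γ(S, V) Γ(X, W) (Localization.Away b)]
      rfl
    refine ⟨X.basicOpen b, hW.basicOpen b, (X.basicOpen_le b).trans hWV, n, fun _ => none, φ,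
      mem_basicOpen_of_notMem hW hxW hb, hφC, hφs, fun m => ?_⟩
    simp only [Option.elim, Ideal.span_singleton_one]
    exact ideal_eq_top_of_disjoint _ _ fun y hy =>
      notMem_support_of_mem_offD (hWle.trans inf_le_left (X.basicOpen_le b hy)) m

end Groth.Agent.LogNCD28
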