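import Groth.Agent.Lib.LogNCD28.FlatDivRing
import Groth.Agent.Lib.LogNCD28.LiftChart
import Groth.Agent.Lib.Deform4
import Groth.Agent.Lib.SecDiv18.Basic

/-!
# Flat lifts of normal crossing components are effective Cartier divisors
-/

universe u

open CategoryTheory CategoryTheory.Limits AlgebraicGeometry Opposite TopologicalSpace
open scoped TensorProduct

set_option backward.isDefEq.respectTransparency false
set_option backward.isDefEq.respectTransparency.types false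
set_option linter.style.haveILetI false
set_option maxHeartbeats 1000000

namespace Groth.Agent.LogNCD28

variable {p : ℕ} [hp : Fact p.Prime]

/-- Reduction modulo `p`. -/
noncomputable def red (p : ℕ) : ULift.{u} (ZMod (p ^ 2)) →+* ULift.{u} (ZMod p) :=
  (ZMod.castHom (dvd_pow_self p two_ne_zero) (ULift.{u} (ZMod p))).comp
    (ULift.ringEquiv : ULift.{u} (ZMod (p ^ 2)) ≃+* ZMod (p ^ 2)).toRingHom

theorem red_surjective : Function.Surjective (red.{u} p) := fun y => by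
  obtain ⟨t, ht⟩ := ZMod.ringHom_surjective
    ((ULift.ringEquiv : ULift.{u} (ZMod p) ≃+* ZMod p).toRingHom.comp (red p)) y.down
  exact ⟨t, (ULift.ringEquiv : ULift.{u} (ZMod p) ≃+* ZMod p).injective ht⟩

theorem ker_red : RingHom.ker (red.{u} p) = Ideal.span {(p : ULift.{u} (ZMod (p ^ 2)))} := by
  haveI : Nontrivial (ULift.{u} (ZMod p)) := ULift.nontrivial
  refine le_antisymm (fun x hx => ?_) ?_
  · rcases isUnit_or_exists_eq_mul x with h | ⟨y, rfl⟩
    · exact absurd (RingHom.mem_ker.1 hx) (h.map (red p)).ne_zero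
    · exact Ideal.mul_mem_right _ _ (Ideal.mem_span_singleton_self _)
  · rw [Ideal.span_singleton_le_iff_mem, RingHom.mem_ker, map_natCast]
    exact ULift.ext _ _ (ZMod.natCast_self p)

theorem surjective_SpecMap_red : Surjective (Spec.map (CommRingCat.ofHom (red.{u} p))) := by
  constructor
  intro P
  haveI : Nontrivial (ULift.{u} (ZMod p)) := ULift.nontrivial
  obtain ⟨Q⟩ := (inferInstance : Nonempty (PrimeSpectrum (ULift.{u} (ZMod p))))
  refine ⟨Q, PrimeSpectrum.ext ?_⟩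
  have key : ∀ P : PrimeSpectrum (ULift.{u} (ZMod (p ^ 2))), P.asIdeal = Ideal.span {(p : ULift.{u} (ZMod (p ^ 2)))} := by
    intro P
    refine le_antisymm (fun x hx => ?_) ((Ideal.span_singleton_le_iff_mem _).2 ?_)
    · rcases isUnit_or_exists_eq_mul x with h | ⟨y, rfl⟩
      · exact absurd (Ideal.eq_top_of_isUnit_mem _ hx h) P.2.ne_top
      · exact Ideal.mul_mem_right _ _ (Ideal.mem_span_singleton_self _)
    · refine (P.2.mem_or_mem ?_).elim id id
      rw [p_mul_p_eq_zero]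
      exact Submodule.zero_mem _
  exact (key _).trans (key P).symm

variable {Sl S X Xl : Scheme.{u}} {iS : S ⟶ Sl} {fS : S ⟶ Spec (.of (ULift.{u} (ZMod p)))}
  {gS : Sl ⟶ Spec (.of (ULift.{u} (ZMod (p ^ 2))))}
  (hS : IsPullback iS fS gS (Spec.map (CommRingCat.ofHom (red p))))
  {f : X ⟶ S} {g : Xl ⟶ Sl} {j : X ⟶ Xl} (hX : IsPullback j f g iS) {r : ℕ}

include hS in
theorem isClosedImmersion_iS : IsClosedImmersion iS :=
  MorphismProperty.of_isPullback hS.flip (IsClosedImmersion.spec_of_surjective _ red_surjective)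

include hS in
theorem ker_iS_app [IsClosedImmersion (Spec.map (CommRingCat.ofHom (red.{u} p)))] (V : Sl.affineOpens) :
    RingHom.ker (iS.app V.1).hom = Ideal.span {(p : Γ(Sl, V.1))} := by
  rw [Deform4.ker_app_of_isPullback hS ⟨⊤, isAffineOpen_top _⟩ V le_top]
  have h : RingHom.ker ((Spec.map (CommRingCat.ofHom (red.{u} p))).app ⊤).hom =
      Ideal.span {((p : ℕ) : Γ(Spec (.of (ULift.{u} (ZMod (p ^ 2)))), ⊤))} := by
    let e := (Scheme.ΓSpecIso (.of (ULift.{u} (ZMod (p ^ 2))))).commRingCatIsoToRingEquiv.symm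
    ext y
    obtain ⟨y, rfl⟩ := e.surjective y
    have h1 := congr($(Scheme.ΓSpecIso_inv_naturality (CommRingCat.ofHom (red.{u} p))) y)
    simp only [CategoryTheory.comp_apply] at h1
    rw [RingHom.mem_ker, Ideal.mem_span_singleton, ← map_natCast e, map_dvd_iff, ← Ideal.mem_span_singleton,
      ← ker_red, RingHom.mem_ker]
    show (Spec.map _).appTop ((Scheme.ΓSpecIso _).inv y) = 0 ↔ _
    rw [← h1]
    exact map_eq_zero_iff _ (Scheme.ΓSpecIso _).commRingCatIsoToRingEquiv.symm.injective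
  rw [h, Ideal.map_span, Set.image_singleton, map_natCast]

include hS hX in
/-- Everything needed about the lifts near a point. -/
theorem local_data [Flat gS] [Flat g] [Smooth f] (D : Fin r → X.IdealSheafData) (hD : LogNCD.IsNCD D f)
    (Dl : Fin r → Xl.IdealSheafData) (hDl : ∀ m, (Dl m).comap j = D m) (m : Fin r) (y : Xl) (O : Xl.Opens)
    (hy : y ∈ O) :
    ∃ (V' : Sl.affineOpens) (W' : Xl.affineOpens) (e : W'.1 ≤ g ⁻¹ᵁ V'.1), y ∈ W'.1 ∧ W'.1 ≤ O ∧
      ∃ (o : ULift.{u} (ZMod (p ^ 2)) →+* Γ(Sl, V'.1)), o.Flat ∧ ((g.appLE V'.1 W'.1 e).hom.comp o).Flat ∧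
        ∃ t ∈ nonZeroDivisors (Γ(Xl, W'.1) ⧸ Ideal.span {(p : Γ(Xl, W'.1))}),
          ((Dl m).ideal W').map (Ideal.Quotient.mk _) = Ideal.span {t} ∧
          ((Ideal.Quotient.mk (((Dl m).ideal W').map (Ideal.Quotient.mk (Ideal.span {(p : Γ(Xl, W'.1))})))).comp
            (Ideal.quotientMap (Ideal.span {(p : Γ(Xl, W'.1))}) (g.appLE V'.1 W'.1 e).hom
              (show Ideal.span {(p : Γ(Sl, V'.1))} ≤ _ by
                rw [Ideal.span_singleton_le_iff_mem, Ideal.mem_comap, map_natCast]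
                exact Ideal.mem_span_singleton_self _))).Flat := by
  haveI hc0 : IsClosedImmersion (Spec.map (CommRingCat.ofHom (red.{u} p))) :=
    IsClosedImmersion.spec_of_surjective _ red_surjective
  haveI := isClosedImmersion_iS hS
  haveI : IsClosedImmersion j := MorphismProperty.of_isPullback hX.flip inferInstance
  haveI : Surjective iS := MorphismProperty.of_isPullback hS.flip surjective_SpecMap_red
  haveI : Surjective j := MorphismProperty.of_isPullback hX.flip inferInstance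
  obtain ⟨x, rfl⟩ := j.surjective y
  obtain ⟨V', hV', hxV, -⟩ := exists_isAffineOpen_mem_and_subset (U := (⊤ : Sl.Opens)) (x := g (j x)) trivial
  have hxV' : f x ∈ iS ⁻¹ᵁ V' := by
    show iS (f x) ∈ V'
    rw [← Scheme.Hom.comp_apply, ← hX.w, Scheme.Hom.comp_apply]
    exact hxV
  obtain ⟨U, hU, hUV, n, k, φ, hxU, hφC, hst, hk⟩ := exists_chart D hD (hV'.preimage iS) (x := x) hxV'
  let O' : Xl.Opens := ⟨(j '' (U : Set X)ᶜ)ᶜ, (j.isClosedEmbedding.isClosedMap _ U.2.isClosed_compl).isOpen_compl⟩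
  have hxO' : j x ∈ O' := fun ⟨x', hx', e⟩ => hx' (j.isClosedEmbedding.injective e ▸ hxU)
  obtain ⟨W', hW', hxW, hWle⟩ := exists_isAffineOpen_mem_and_subset (U := O ⊓ O' ⊓ g ⁻¹ᵁ V') (x := j x)
    ⟨⟨hy, hxO'⟩, hxV⟩
  have hWle : W' ≤ O ⊓ O' ⊓ g ⁻¹ᵁ V' := hWle
  have e : W' ≤ g ⁻¹ᵁ V' := hWle.trans inf_le_right
  have hWU : j ⁻¹ᵁ W' ≤ U := fun z hz => by
    by_contra hzU
    exact (hWle hz).1.2 ⟨z, hzU, rfl⟩
  have hW : IsAffineOpen (j ⁻¹ᵁ W') := hW'.preimage j
  have hWV : j ⁻¹ᵁ W' ≤ f ⁻¹ᵁ (iS ⁻¹ᵁ V') := hWU.trans hUV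
  let o : ULift.{u} (ZMod (p ^ 2)) →+* Γ(Sl, V') :=
    (gS.appLE ⊤ V' le_top).hom.comp (Scheme.ΓSpecIso (.of (ULift.{u} (ZMod (p ^ 2))))).inv.hom
  have ho0 : o.Flat := by
    refine RingHom.Flat.comp ?_ ?_
    · exact RingHom.Flat.of_bijective (ConcreteCategory.bijective_of_isIso _)
    · exact HasRingHomProperty.appLE (P := @Flat) gS inferInstance ⟨⊤, isAffineOpen_top _⟩ ⟨V', hV'⟩ le_top
  have ho : ((g.appLE V' W' e).hom.comp o).Flat :=
    RingHom.Flat.comp ho0 (HasRingHomProperty.appLE (P := @Flat) g inferInstance ⟨V', hV'⟩ ⟨W', hW'⟩ e)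
  let φW : MvPolynomial (Fin n) Γ(S, iS ⁻¹ᵁ V') →+* Γ(X, j ⁻¹ᵁ W') := (X.presheaf.map (homOfLE hWU).op).hom.comp φ
  have hφW : φW.Etale := by
    refine RingHom.Etale.stableUnderComposition _ _ ?_ ?_
    · letI := φ.toAlgebra
      haveI := hst
      exact (inferInstance : Algebra.Etale (MvPolynomial (Fin n) Γ(S, iS ⁻¹ᵁ V')) Γ(X, U))
    · have := HasRingHomProperty.appLE (P := @Etale) (𝟙 X) inferInstance ⟨U, hU⟩ ⟨_, hW⟩ hWU
      simpa [Scheme.Hom.appLE] using this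
  let t : Γ(X, j ⁻¹ᵁ W') := (k m).elim 1 fun i => φW (MvPolynomial.X i)
  have hφWC : φW.comp MvPolynomial.C = (f.appLE (iS ⁻¹ᵁ V') (j ⁻¹ᵁ W') hWV).hom := by
    rw [RingHom.comp_assoc, hφC, ← CommRingCat.hom_comp, Scheme.Hom.appLE_map]
  have ht : t ∈ nonZeroDivisors _ ∧
      ((Ideal.Quotient.mk (Ideal.span {t})).comp (f.appLE (iS ⁻¹ᵁ V') (j ⁻¹ᵁ W') hWV).hom).Flat := by
    cases hm : k m with
    | some i =>
      rw [← hφWC, show t = φW (MvPolynomial.X i) by simp [t, hm]]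
      exact chart_coord φW hφW i
    | none =>
      refine ⟨by simp [t, hm], ?_⟩
      haveI : Subsingleton (Γ(X, j ⁻¹ᵁ W') ⧸ Ideal.span {t}) := Ideal.Quotient.subsingleton_iff.2 (by simp [t, hm])
      letI := ((Ideal.Quotient.mk (Ideal.span {t})).comp (f.appLE (iS ⁻¹ᵁ V') (j ⁻¹ᵁ W') hWV).hom).toAlgebra
      show Module.Flat _ (Γ(X, j ⁻¹ᵁ W') ⧸ Ideal.span {t})
      infer_instance
  have hDW : (D m).ideal ⟨_, hW⟩ = Ideal.span {t} := by
    rw [← (D m).map_ideal (U := ⟨_, hW⟩) (V := ⟨U, hU⟩) hWU, hk m, Ideal.map_span, Set.image_singleton]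
    congr 2
    cases hm : k m <;> simp [t, φW, hm] <;> rfl
  have hJ : ((Dl m).ideal ⟨W', hW'⟩).map (j.app W').hom = Ideal.span {t} := by
    rw [← hDW, ← hDl m, EffCartier.comap_ideal (Dl m) j ⟨W', hW'⟩ ⟨_, hW⟩ le_rfl, Scheme.Hom.appLE_eq_app]
  have hkj : RingHom.ker (j.app W').hom = Ideal.span {(p : Γ(Xl, W'))} := by
    rw [Deform4.ker_app_of_isPullback hX ⟨V', hV'⟩ ⟨W', hW'⟩ e, ker_iS_app hS ⟨V', hV'⟩, Ideal.map_span,
      Set.image_singleton, map_natCast]
  let E : (Γ(Xl, W') ⧸ Ideal.span {(p : Γ(Xl, W'))}) ≃+* Γ(X, j ⁻¹ᵁ W') :=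
    (Ideal.quotEquivOfEq hkj.symm).trans (RingHom.quotientKerEquivOfSurjective (j.app_surjective W' hW'))
  have hE : ∀ s, E (Ideal.Quotient.mk _ s) = j.app W' s := fun _ => rfl
  have hJE : (((Dl m).ideal ⟨W', hW'⟩).map (Ideal.Quotient.mk (Ideal.span {(p : Γ(Xl, W'))}))).map E.toRingHom =
      Ideal.span {t} := by
    rw [Ideal.map_map, ← hJ]
    rfl
  refine ⟨⟨V', hV'⟩, ⟨W', hW'⟩, e, hxW, hWle.trans (inf_le_left.trans inf_le_left), o, ho0, ho, E.symm t, ?_, ?_, ?_⟩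
  · refine mem_nonZeroDivisors_iff_right.2 fun z hz => E.injective ?_
    rw [map_zero]
    exact mem_nonZeroDivisors_iff_right.1 ht.1 _ (by rw [← E.apply_symm_apply t, ← map_mul, hz, map_zero])
  · have := congrArg (fun I => Ideal.map E.symm.toRingHom I) hJE
    simp only [Ideal.map_span, Set.image_singleton, Ideal.map_map] at this
    refine Eq.trans ?_ this
    congr 1
    exact RingHom.ext fun z => (E.symm_apply_apply _).symm
  · let E' := Ideal.quotientEquiv _ (Ideal.span {t}) E hJE.symm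
    let eA : (Γ(Sl, V') ⧸ Ideal.span {(p : Γ(Sl, V'))}) ≃+* Γ(S, iS ⁻¹ᵁ V') :=
      (Ideal.quotEquivOfEq (ker_iS_app hS ⟨V', hV'⟩).symm).trans
        (RingHom.quotientKerEquivOfSurjective (iS.app_surjective V' hV'))
    have h1 := RingHom.Flat.respectsIso.1 _ E'.symm (RingHom.Flat.respectsIso.2 _ eA ht.2)
    convert h1 using 1
    refine Ideal.Quotient.ringHom_ext (RingHom.ext fun s => E'.injective ?_)
    simp only [RingHom.comp_apply, RingEquiv.toRingHom_eq_coe, RingEquiv.coe_toRingHom, RingEquiv.apply_symm_apply,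
      Ideal.quotientMap_mk]
    show Ideal.Quotient.mk (Ideal.span {t}) (E (Ideal.Quotient.mk _ (g.appLE V' W' e s))) =
      Ideal.Quotient.mk (Ideal.span {t}) (f.appLE (iS ⁻¹ᵁ V') (j ⁻¹ᵁ W') hWV (iS.app V' s))
    congr 1
    rw [hE, ← CategoryTheory.comp_apply, ← CategoryTheory.comp_apply, ← Scheme.Hom.appLE_eq_app,
      Scheme.Hom.appLE_comp_appLE, ← Scheme.Hom.appLE_eq_app, Scheme.Hom.appLE_comp_appLE]
    simp only [hX.w]

include hS hX in
theorem flat_iff_isInvertible [Flat gS] [Flat g] [Smooth f] (D : Fin r → X.IdealSheafData) (hD : LogNCD.IsNCD D f)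
    (Dl : Fin r → Xl.IdealSheafData) (hDl : ∀ m, (Dl m).comap j = D m) (m : Fin r) :
    Flat ((Dl m).subschemeι ≫ g) ↔ PicF.IsInvertible (ClSub.idealMod (Dl m)) := by
  have key : ∀ (V' : Sl.affineOpens) (W' : Xl.affineOpens) (e : W'.1 ≤ g ⁻¹ᵁ V'.1)
      (e' : (Dl m).subschemeι ⁻¹ᵁ W'.1 ≤ ((Dl m).subschemeι ≫ g) ⁻¹ᵁ V'.1),
      (((Dl m).subschemeι ≫ g).appLE V'.1 _ e').hom.Flat ↔
        ((Ideal.Quotient.mk ((Dl m).ideal W')).comp (g.appLE V'.1 W'.1 e).hom).Flat := by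
    intro V' W' e e'
    let E : (Γ(Xl, W'.1) ⧸ (Dl m).ideal W') ≃+* Γ((Dl m).subscheme, (Dl m).subschemeι ⁻¹ᵁ W'.1) :=
      (Ideal.quotEquivOfEq ((Dl m).ker_subschemeι_app W').symm).trans
        (RingHom.quotientKerEquivOfSurjective ((Dl m).subschemeι_app_surjective W'))
    have h1 : (((Dl m).subschemeι ≫ g).appLE V'.1 _ e').hom =
        E.toRingHom.comp ((Ideal.Quotient.mk ((Dl m).ideal W')).comp (g.appLE V'.1 W'.1 e).hom) := by
      rw [← Scheme.Hom.appLE_comp_appLE _ g V'.1 W'.1 _ e le_rfl, Scheme.Hom.appLE_eq_app, CommRingCat.hom_comp]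
      rfl
    rw [h1]
    refine ⟨fun h => ?_, fun h => RingHom.Flat.respectsIso.1 _ E h⟩
    have h2 := RingHom.Flat.respectsIso.1 _ E.symm h
    convert h2 using 1
    exact RingHom.ext fun z => (E.symm_apply_apply _).symm
  constructor
  · intro hflat
    refine M2.isInvertible_idealMod _ fun y => ?_
    obtain ⟨V', W', e, hyW, -, o, ho0, ho, t, ht, hJt, -⟩ := local_data hS hX D hD Dl hDl m y ⊤ trivial
    have h1 := (key V' W' e (fun z hz => e hz)).1 (HasRingHomProperty.appLE (P := @Flat) _ hflat V'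
      ⟨_, W'.2.preimage (Dl m).subschemeι⟩ (fun z hz => e hz))
    have h2 : ((Ideal.Quotient.mk ((Dl m).ideal W')).comp ((g.appLE V'.1 W'.1 e).hom.comp o)).Flat := by
      rw [← RingHom.comp_assoc]
      exact RingHom.Flat.comp ho0 h1
    obtain ⟨c, hc, hJ⟩ := exists_gen_of_flat _ ho _ h2 ht hJt
    exact ⟨W', hyW, c, hc, hJ⟩
  · intro hinv
    have hI := Groth.Agent.SecDiv.isEffCartierIdeal_of_isInvertible _ hinv
    refine (HasRingHomProperty.iff_exists_appLE (P := @Flat)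
      (RingHom.Flat.stableUnderComposition.stableUnderCompositionWithLocalizationAway
        RingHom.Flat.holdsForLocalizationAway).1).2 fun z => ?_
    obtain ⟨W0, hz0, c0, hc0, hJ0⟩ := hI ((Dl m).subschemeι z)
    obtain ⟨V', W', e, hyW, hWW0, o, -, ho, t, ht, hJt, hfl⟩ :=
      local_data hS hX D hD Dl hDl m ((Dl m).subschemeι z) W0.1 hz0
    refine ⟨V', ⟨_, W'.2.preimage (Dl m).subschemeι⟩, hyW, fun z hz => e hz, (key V' W' e _).2 ?_⟩
    let c := Xl.presheaf.map (homOfLE hWW0).op c0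
    have hJ : (Dl m).ideal W' = Ideal.span {c} := by
      rw [← (Dl m).map_ideal (U := W') (V := W0) hWW0, hJ0, Ideal.map_span, Set.image_singleton]
      rfl
    rw [hJ, Ideal.map_span, Set.image_singleton] at hJt
    have hc : Ideal.Quotient.mk (Ideal.span {(p : Γ(Xl, W'.1))}) c ∈ nonZeroDivisors _ := by
      obtain ⟨u, hu⟩ := Ideal.mem_span_singleton'.1 (hJt ▸ Ideal.mem_span_singleton_self t :
        t ∈ Ideal.span {Ideal.Quotient.mk (Ideal.span {(p : Γ(Xl, W'.1))}) c})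
      rw [← hu] at ht
      exact (mul_mem_nonZeroDivisors.1 ht).2
    revert hfl
    generalize (Dl m).ideal W' = J at hJ ⊢
    subst hJ
    intro hfl
    exact flat_quot_of_gen o _ ho c hc hfl

end Groth.Agent.LogNCD28
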