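import Groth.Agent.Lib.LogNCD28.LiftRing
import Groth.Agent.S0400

/-!
# Lifts of Cartier divisors modulo `p²`
-/

universe u

open TensorProduct

set_option linter.style.haveILetI false
set_option quotPrecheck false

namespace Groth.Agent.LogNCD28

theorem chart_coord {A B : Type u} [CommRing A] [CommRing B] {n : ℕ} (φ : MvPolynomial (Fin n) A →+* B)
    (hφ : φ.Etale) (i : Fin n) : φ (MvPolynomial.X i) ∈ nonZeroDivisors B ∧
      ((Ideal.Quotient.mk (Ideal.span {φ (MvPolynomial.X i)})).comp (φ.comp MvPolynomial.C)).Flat := by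
  let R := MvPolynomial (Fin n) A
  letI : Algebra R B := φ.toAlgebra
  haveI : Algebra.Etale R B := hφ
  refine ⟨?_, ?_⟩
  · have hXi : IsSMulRegular R (MvPolynomial.X i : R) := (MvPolynomial.isRegular_X (R := A) (n := i)).left.isSMulRegular
    have h2 := IsSMulRegular.of_flat (S := B) hXi
    rw [mem_nonZeroDivisors_iff_right]
    intro x hx
    refine h2.right_eq_zero_of_smul ?_
    show algebraMap R B (MvPolynomial.X i) • x = 0
    rw [smul_eq_mul, mul_comm]
    exact hx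
  · letI : Algebra A B := (φ.comp MvPolynomial.C).toAlgebra
    haveI : IsScalarTower A R B := IsScalarTower.of_algebraMap_eq fun _ => rfl
    let I : Ideal R := Ideal.span {MvPolynomial.X i}
    haveI : Module.Flat A (R ⧸ I) := flat_quot_X i
    haveI h2 : Module.Flat A ((R ⧸ I) ⊗[R] B) := Module.Flat.trans A (R ⧸ I) _
    have e1 : (B ⧸ I.map (algebraMap R B)) ≃ₗ[R] ((R ⧸ I) ⊗[R] B) :=
      ((Algebra.TensorProduct.quotIdealMapEquivTensorQuot B I).toLinearEquiv.restrictScalars R).trans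
        (TensorProduct.comm R _ _)
    have h3 : Module.Flat A (B ⧸ I.map (algebraMap R B)) := Module.Flat.of_linearEquiv (e1.restrictScalars A)
    have e2 : I.map (algebraMap R B) = Ideal.span {φ (MvPolynomial.X i)} := by
      rw [Ideal.map_span, Set.image_singleton]; rfl
    rw [e2] at h3
    exact h3

variable {p : ℕ} [hp : Fact p.Prime]


theorem p_mul_p_eq_zero : (p : (ULift.{u} (ZMod (p ^ 2)))) * (p : (ULift.{u} (ZMod (p ^ 2)))) = 0 := by
  apply ULift.ext
  show (p : ZMod (p ^ 2)) * (p : ZMod (p ^ 2)) = 0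
  rw [← Nat.cast_mul, ZMod.natCast_eq_zero_iff, pow_two]

theorem isUnit_or_exists_eq_mul (x : (ULift.{u} (ZMod (p ^ 2)))) : IsUnit x ∨ ∃ y, x = (p : (ULift.{u} (ZMod (p ^ 2)))) * y := by
  haveI : NeZero (p ^ 2) := ⟨pow_ne_zero _ hp.out.ne_zero⟩
  have hx : x = ((x.down.val : ℕ) : (ULift.{u} (ZMod (p ^ 2)))) := ULift.ext _ _ (ZMod.natCast_zmod_val x.down).symm
  by_cases h : p ∣ x.down.val
  · obtain ⟨y, hy⟩ := h
    exact .inr ⟨(y : (ULift.{u} (ZMod (p ^ 2)))), by rw [hx, hy, Nat.cast_mul]⟩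
  · refine .inl ?_
    have h1 : IsUnit ((x.down.val : ℕ) : ZMod (p ^ 2)) :=
      (ZMod.isUnit_iff_coprime _ _).2 ((Nat.Coprime.pow_right _ ((hp.out.coprime_iff_not_dvd.2 h).symm)))
    rw [hx]
    rw [← map_natCast (ULift.ringEquiv.symm : ZMod (p ^ 2) ≃+* (ULift.{u} (ZMod (p ^ 2))))]
    exact h1.map _

theorem p_ne_zero : (p : (ULift.{u} (ZMod (p ^ 2)))) ≠ 0 := fun h => by
  have h' := congrArg ULift.down h
  simp only [ULift.down_natCast, ULift.zero_down] at h'
  rw [ZMod.natCast_eq_zero_iff] at h'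
  have h2 := Nat.le_of_dvd hp.out.pos h'
  nlinarith [hp.out.two_le]

theorem exists_eq_mul_of_mul_eq_zero {x : (ULift.{u} (ZMod (p ^ 2)))} (h : x * (p : (ULift.{u} (ZMod (p ^ 2)))) = 0) : ∃ y, x = (p : (ULift.{u} (ZMod (p ^ 2)))) * y := by
  rcases isUnit_or_exists_eq_mul x with hx | hx
  · exact absurd ((hx.mul_right_eq_zero).1 h) p_ne_zero
  · exact hx

theorem flat_iff_torsion {M : Type u} [AddCommGroup M] [Module (ULift.{u} (ZMod (p ^ 2))) M] :
    Module.Flat (ULift.{u} (ZMod (p ^ 2))) M ↔ ∀ m : M, (p : (ULift.{u} (ZMod (p ^ 2)))) • m = 0 → ∃ m' : M, m = (p : (ULift.{u} (ZMod (p ^ 2)))) • m' := by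
  constructor
  · intro _ m hm
    obtain ⟨κ, a, y, hy, ha⟩ := Module.Flat.isTrivialRelation_of_sum_smul_eq_zero
      (R := (ULift.{u} (ZMod (p ^ 2)))) (M := M) (ι := Unit) (f := fun _ => (p : (ULift.{u} (ZMod (p ^ 2))))) (x := fun _ => m) (by simpa using hm)
    choose z hz using fun j => exists_eq_mul_of_mul_eq_zero (x := a () j) (by
      have := ha j; simpa [mul_comm] using this)
    refine ⟨∑ j, z j • y j, ?_⟩
    rw [Finset.smul_sum]
    refine (hy ()).trans (Finset.sum_congr rfl fun j _ => ?_)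
    rw [hz j, mul_smul]
  · intro h
    rw [Module.Flat.iff_lift_lsmul_comp_subtype_injective]
    rintro I -
    have key : ∀ g : (ULift.{u} (ZMod (p ^ 2))), ∀ hg : g ∈ I, (∀ x ∈ I, ∃ c, c * g = x) →
        (∀ b : M, g • b = 0 → (⟨g, hg⟩ : I) ⊗ₜ[(ULift.{u} (ZMod (p ^ 2)))] b = 0) →
        Function.Injective (TensorProduct.lift ((LinearMap.lsmul (ULift.{u} (ZMod (p ^ 2))) M).comp I.subtype)) := by
      intro g hg hspan hz
      refine (injective_iff_map_eq_zero _).2 fun t ht => ?_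
      obtain ⟨b, rfl⟩ : ∃ b : M, t = (⟨g, hg⟩ : I) ⊗ₜ[(ULift.{u} (ZMod (p ^ 2)))] b := by
        clear ht
        induction t using TensorProduct.induction_on with
        | zero => exact ⟨0, by simp⟩
        | add t t' ht ht' =>
          obtain ⟨b, rfl⟩ := ht; obtain ⟨b', rfl⟩ := ht'
          exact ⟨b + b', by rw [TensorProduct.tmul_add]⟩
        | tmul a b =>
          obtain ⟨c, hc⟩ := hspan a a.2
          refine ⟨c • b, ?_⟩
          rw [← TensorProduct.smul_tmul]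
          congr 1
          exact Subtype.ext hc.symm
      exact hz b (by simpa using ht)
    by_cases hu : ∃ x ∈ I, IsUnit x
    · obtain ⟨x, hx, hx'⟩ := hu
      have hI := Ideal.eq_top_of_isUnit_mem _ hx hx'
      refine key 1 (by rw [hI]; exact Submodule.mem_top) (fun x _ => ⟨x, mul_one x⟩) fun b hb => ?_
      rw [one_smul] at hb
      rw [hb, TensorProduct.tmul_zero]
    push Not at hu
    have hle : ∀ x ∈ I, ∃ c, c * (p : (ULift.{u} (ZMod (p ^ 2)))) = x := fun x hx => by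
      obtain ⟨y, hy⟩ := (isUnit_or_exists_eq_mul x).resolve_left (hu x hx)
      exact ⟨y, by rw [hy, mul_comm]⟩
    by_cases hb : I = ⊥
    · refine key 0 I.zero_mem (fun x hx => ⟨0, ?_⟩) fun b _ => ?_
      · rw [hb, Ideal.mem_bot] at hx; rw [hx, mul_zero]
      · rw [show (⟨0, I.zero_mem⟩ : I) = 0 from rfl, TensorProduct.zero_tmul]
    obtain ⟨x, hx, hx0⟩ := Submodule.exists_mem_ne_zero_of_ne_bot hb
    obtain ⟨y, rfl⟩ := hle x hx
    have hy : IsUnit y := (isUnit_or_exists_eq_mul y).resolve_right fun ⟨z, hz⟩ => hx0 (by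
      rw [hz, mul_right_comm, p_mul_p_eq_zero, zero_mul])
    have hpI : (p : (ULift.{u} (ZMod (p ^ 2)))) ∈ I := by rwa [Ideal.unit_mul_mem_iff_mem I hy] at hx
    refine key (p : (ULift.{u} (ZMod (p ^ 2)))) hpI hle fun b hb => ?_
    obtain ⟨c, rfl⟩ := h b hb
    rw [← TensorProduct.smul_tmul,
      show (p : (ULift.{u} (ZMod (p ^ 2)))) • (⟨(p : (ULift.{u} (ZMod (p ^ 2)))), hpI⟩ : I) = 0 from Subtype.ext p_mul_p_eq_zero, TensorProduct.zero_tmul]

variable {A' C' : Type u} [CommRing A'] [CommRing C']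

theorem torsion_of_flat (o : (ULift.{u} (ZMod (p ^ 2))) →+* C') (ho : o.Flat) {x : C'} (hx : (p : C') * x = 0) :
    ∃ y, x = (p : C') * y := by
  letI := o.toAlgebra
  haveI : Module.Flat (ULift.{u} (ZMod (p ^ 2))) C' := ho
  obtain ⟨y, hy⟩ := flat_iff_torsion.1 ho x (by rw [Algebra.smul_def, map_natCast]; exact hx)
  exact ⟨y, by rw [hy, Algebra.smul_def, map_natCast]⟩

/-- The ideal of a flat subscheme lifting a principal one is principal, with regular generator. -/
theorem exists_gen_of_flat (o : (ULift.{u} (ZMod (p ^ 2))) →+* C') (ho : o.Flat) (J : Ideal C')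
    (hJ : ((Ideal.Quotient.mk J).comp o).Flat) {t : C' ⧸ Ideal.span {(p : C')}} (ht : t ∈ nonZeroDivisors _)
    (hJt : J.map (Ideal.Quotient.mk (Ideal.span {(p : C')})) = Ideal.span {t}) :
    ∃ c, c ∈ nonZeroDivisors C' ∧ J = Ideal.span {c} := by
  let q := Ideal.Quotient.mk (Ideal.span {(p : C')})
  have hpp : (p : C') * p = 0 := by rw [← map_natCast o, ← map_mul, p_mul_p_eq_zero, map_zero]
  obtain ⟨c, hcJ, hc⟩ := (Ideal.mem_map_iff_of_surjective q Ideal.Quotient.mk_surjective).1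
    (hJt ▸ Ideal.mem_span_singleton_self t : t ∈ J.map q)
  have hker : ∀ x, q x = 0 → ∃ y, x = (p : C') * y := fun x hx => by
    obtain ⟨y, hy⟩ := Ideal.mem_span_singleton'.1 (Ideal.Quotient.eq_zero_iff_mem.1 hx)
    exact ⟨y, by rw [← hy, mul_comm]⟩
  have hdec : ∀ a ∈ J, ∃ b x, a = b * c + (p : C') * x := fun a ha => by
    obtain ⟨b, hb⟩ := Ideal.mem_span_singleton'.1 (hJt ▸ Ideal.mem_map_of_mem q ha : q a ∈ Ideal.span {t})
    obtain ⟨b, rfl⟩ := Ideal.Quotient.mk_surjective b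
    obtain ⟨x, hx⟩ := hker (a - b * c) (by rw [map_sub, map_mul, hc, hb, sub_self])
    exact ⟨b, x, by rw [← hx, add_sub_cancel]⟩
  refine ⟨c, mem_nonZeroDivisors_iff_right.2 fun x hx => ?_, le_antisymm (fun a ha => ?_)
    ((Ideal.span_singleton_le_iff_mem _).2 hcJ)⟩
  · obtain ⟨y, rfl⟩ := hker x (mem_nonZeroDivisors_iff_right.1 ht _ (by rw [← hc, ← map_mul, hx, map_zero]))
    obtain ⟨z, hz⟩ := torsion_of_flat o ho (x := y * c) (by rw [← mul_assoc]; exact hx)
    have hy : q y = 0 := mem_nonZeroDivisors_iff_right.1 ht _ (by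
      rw [← hc, ← map_mul, hz, Ideal.Quotient.eq_zero_iff_mem]
      exact Ideal.mul_mem_right _ _ (Ideal.mem_span_singleton_self _))
    obtain ⟨w, rfl⟩ := hker y hy
    rw [← mul_assoc, hpp, zero_mul]
  · obtain ⟨b, x, rfl⟩ := hdec a ha
    have hpx : (p : C') * x ∈ J := by
      have := J.sub_mem ha (J.mul_mem_left b hcJ)
      simpa using this
    obtain ⟨y, hy⟩ := torsion_of_flat _ hJ (x := Ideal.Quotient.mk J x)
      (by rw [← map_natCast (Ideal.Quotient.mk J), ← map_mul, Ideal.Quotient.eq_zero_iff_mem]; exact hpx)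
    obtain ⟨y, rfl⟩ := Ideal.Quotient.mk_surjective y
    rw [← map_natCast (Ideal.Quotient.mk J), ← map_mul, Ideal.Quotient.mk_eq_mk_iff_sub_mem] at hy
    obtain ⟨b2, x2, h2⟩ := hdec _ hy
    refine Ideal.mem_span_singleton'.2 ⟨b + (p : C') * b2, ?_⟩
    linear_combination -(p : C') * h2 - (x2 + y) * hpp

/-- A principal lift of a flat principal subscheme is flat. -/
theorem flat_quot_of_gen (o : (ULift.{u} (ZMod (p ^ 2))) →+* A') (a : A' →+* C') (ho : (a.comp o).Flat) (c : C')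
    (hc : Ideal.Quotient.mk (Ideal.span {(p : C')}) c ∈ nonZeroDivisors _)
    (hflat : ((Ideal.Quotient.mk ((Ideal.span {c}).map (Ideal.Quotient.mk (Ideal.span {(p : C')})))).comp
      (Ideal.quotientMap (Ideal.span {(p : C')}) a
        (show Ideal.span {(p : A')} ≤ (Ideal.span {(p : C')}).comap a by
          rw [Ideal.span_singleton_le_iff_mem, Ideal.mem_comap, map_natCast]
          exact Ideal.mem_span_singleton_self _))).Flat) :
    ((Ideal.Quotient.mk (Ideal.span {c})).comp a).Flat := by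
  let J := Ideal.span {c}
  letI : Algebra (ULift.{u} (ZMod (p ^ 2))) A' := o.toAlgebra
  letI : Algebra A' (C' ⧸ J) := ((Ideal.Quotient.mk J).comp a).toAlgebra
  letI : Algebra (ULift.{u} (ZMod (p ^ 2))) (C' ⧸ J) := (((Ideal.Quotient.mk J).comp a).comp o).toAlgebra
  haveI : IsScalarTower (ULift.{u} (ZMod (p ^ 2))) A' (C' ⧸ J) := IsScalarTower.of_algebraMap_eq fun _ => rfl
  have hpp : (p : C') * p = 0 := by rw [← map_natCast (a.comp o), ← map_mul, p_mul_p_eq_zero, map_zero]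
  haveI : Module.Flat (ULift.{u} (ZMod (p ^ 2))) (C' ⧸ J) := flat_iff_torsion.2 fun m hm => by
    obtain ⟨x, rfl⟩ := Ideal.Quotient.mk_surjective m
    rw [Algebra.smul_def, map_natCast, ← map_natCast (Ideal.Quotient.mk J), ← map_mul,
      Ideal.Quotient.eq_zero_iff_mem] at hm
    obtain ⟨y, hy⟩ := Ideal.mem_span_singleton'.1 hm
    have hy0 := mem_nonZeroDivisors_iff_right.1 hc (Ideal.Quotient.mk _ y) (by
      rw [← map_mul, hy, Ideal.Quotient.eq_zero_iff_mem]
      exact Ideal.mul_mem_right _ _ (Ideal.mem_span_singleton_self _))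
    obtain ⟨z, hz⟩ := Ideal.mem_span_singleton'.1 (Ideal.Quotient.eq_zero_iff_mem.1 hy0)
    obtain ⟨w, hw⟩ := torsion_of_flat _ ho (x := x - z * c) (by linear_combination -hy - c * hz)
    refine ⟨Ideal.Quotient.mk J w, ?_⟩
    rw [Algebra.smul_def, map_natCast, ← map_natCast (Ideal.Quotient.mk J), ← map_mul,
      Ideal.Quotient.mk_eq_mk_iff_sub_mem, ← hw]
    rw [sub_sub_cancel]
    exact Ideal.mem_span_singleton'.2 ⟨z, rfl⟩
  refine Groth.Agent.S0400.result (R := (ULift.{u} (ZMod (p ^ 2)))) (S := A') (M := C' ⧸ J) (Ideal.span {(p : (ULift.{u} (ZMod (p ^ 2))))})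
    ⟨2, by rw [Ideal.span_singleton_pow]; exact Ideal.span_singleton_eq_bot.2 ((pow_two _).trans p_mul_p_eq_zero)⟩ ?_
  have e : (Ideal.span {(p : (ULift.{u} (ZMod (p ^ 2))))}).map (algebraMap (ULift.{u} (ZMod (p ^ 2))) A') = Ideal.span {(p : A')} := by
    rw [Ideal.map_span, Set.image_singleton, map_natCast]
  rw [e]
  let I := Ideal.span {(p : A')}
  let K := Ideal.span {(p : C')}
  have e1 := (Algebra.TensorProduct.quotIdealMapEquivTensorQuot (C' ⧸ J) I).toRingEquiv
  have eI : I.map (algebraMap A' (C' ⧸ J)) = K.map (Ideal.Quotient.mk J) := by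
    rw [Ideal.map_span, Ideal.map_span, Set.image_singleton, Set.image_singleton, map_natCast, map_natCast]
  let E : (A' ⧸ I) ⊗[A'] (C' ⧸ J) ≃+* (C' ⧸ K) ⧸ J.map (Ideal.Quotient.mk K) :=
    (Algebra.TensorProduct.comm A' (A' ⧸ I) (C' ⧸ J)).toRingEquiv.trans
      ((Algebra.TensorProduct.quotIdealMapEquivTensorQuot (C' ⧸ J) I).toRingEquiv.symm.trans
        ((Ideal.quotEquivOfEq eI).trans (DoubleQuot.quotQuotEquivComm J K)))
  have hE : E.toRingHom.comp (algebraMap (A' ⧸ I) ((A' ⧸ I) ⊗[A'] (C' ⧸ J))) =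
      (Ideal.Quotient.mk (J.map (Ideal.Quotient.mk K))).comp (Ideal.quotientMap K a
        (show I ≤ K.comap a by
          rw [Ideal.span_singleton_le_iff_mem, Ideal.mem_comap, map_natCast]
          exact Ideal.mem_span_singleton_self _)) := Ideal.Quotient.ringHom_ext (RingHom.ext fun t => by
    have h1 : (Ideal.Quotient.mk I t) ⊗ₜ[A'] (1 : C' ⧸ J) =
        (1 : A' ⧸ I) ⊗ₜ[A'] algebraMap A' (C' ⧸ J) t := by
      rw [Algebra.algebraMap_eq_smul_one, ← TensorProduct.smul_tmul, ← Ideal.Quotient.algebraMap_eq,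
        Algebra.algebraMap_eq_smul_one]
    show E (Ideal.Quotient.mk I t ⊗ₜ[A'] (1 : C' ⧸ J)) = _
    rw [h1]
    have h2 : (Algebra.TensorProduct.quotIdealMapEquivTensorQuot (C' ⧸ J) I).symm
        (algebraMap A' (C' ⧸ J) t ⊗ₜ[A'] (1 : A' ⧸ I)) = Ideal.Quotient.mk _ (algebraMap A' (C' ⧸ J) t) := by
      rw [AlgEquiv.symm_apply_eq]
      rfl
    simp only [E, RingEquiv.coe_trans, Function.comp_apply, AlgEquiv.coe_ringEquiv,
      Algebra.TensorProduct.comm_tmul, AlgEquiv.symm_toRingEquiv]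
    erw [h2]
    rfl)
  refine RingHom.flat_algebraMap_iff.1 ?_
  rw [← hE] at hflat
  have h3 := RingHom.Flat.respectsIso.1 _ E.symm hflat
  have h4 : E.symm.toRingHom.comp (E.toRingHom.comp (algebraMap (A' ⧸ I) ((A' ⧸ I) ⊗[A'] (C' ⧸ J)))) =
      algebraMap (A' ⧸ I) ((A' ⧸ I) ⊗[A'] (C' ⧸ J)) := by
    clear_value E
    generalize (algebraMap (A' ⧸ I) ((A' ⧸ I) ⊗[A'] (C' ⧸ J))) = φ
    exact RingHom.ext fun t => E.symm_apply_apply (φ t)
  rwa [h4] at h3

end Groth.Agent.LogNCD28
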