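import Groth.Agent.Lib.LogNCD28.Basic
import Groth.Agent.Lib.ModM1.Stalk
import Groth.Agent.Lib.KummerTame25.Smooth
import Groth.Agent.Lib.NodalEtale14.Coord
import Groth.Agent.Lib.Omega12.Restrict
import Groth.Agent.Lib.Omega12.Finite
import Mathlib.RingTheory.Flat.TorsionFree

/-!
# Normal crossing divisors on small affine opens
-/

universe u

open CategoryTheory CategoryTheory.Limits AlgebraicGeometry Opposite TopologicalSpace
open Groth.Agent.M1

set_option backward.isDefEq.respectTransparency false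
set_option backward.isDefEq.respectTransparency.types false
set_option linter.style.haveILetI false
set_option maxHeartbeats 1000000

namespace Groth.Agent.LogNCD28

variable {X S : Scheme.{u}} {f : X ⟶ S} {Ω' : X.Modules} {d : OmegaSh.Der f Ω'} {r : ℕ}
  {D : Fin r → X.IdealSheafData}

/-- The complement of the divisor. -/
def offD (D : Fin r → X.IdealSheafData) : X.Opens :=
  ⟨(⋃ i, ((D i).support : Set X))ᶜ, (isClosed_iUnion_of_finite fun i => (D i).support.isClosed).isOpen_compl⟩

theorem notMem_support_of_mem_offD {x : X} (hx : x ∈ offD D) (i : Fin r) : x ∉ (D i).support :=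
  fun h => hx (Set.mem_iUnion.2 ⟨i, h⟩)

theorem mem_support_iff_of_principal {W : X.affineOpens} {I : X.IdealSheafData} {g : Γ(X, W.1)}
    (hg : I.ideal W = Ideal.span {g}) {x : X} (hx : x ∈ W.1) : x ∈ I.support ↔ x ∉ X.basicOpen g := by
  rw [I.mem_support_iff_of_mem hx, hg, Scheme.zeroLocus_span, Scheme.mem_zeroLocus_iff]
  simp

theorem inf_offD_le {W : X.affineOpens} {g : Fin r → Γ(X, W.1)} (hg : ∀ i, (D i).ideal W = Ideal.span {g i})
    (i : Fin r) : W.1 ⊓ offD D ≤ X.basicOpen (g i) := fun x hx => by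
  by_contra h
  exact notMem_support_of_mem_offD hx.2 i ((mem_support_iff_of_principal (hg i) hx.1).2 h)

theorem basicOpen_prod_le {W : X.affineOpens} {g : Fin r → Γ(X, W.1)}
    (hg : ∀ i, (D i).ideal W = Ideal.span {g i}) : X.basicOpen (∏ i, g i) ≤ W.1 ⊓ offD D := by
  classical
  refine le_inf (X.basicOpen_le _) fun x hx hm => ?_
  obtain ⟨i, hi⟩ := Set.mem_iUnion.1 hm
  refine (mem_support_iff_of_principal (hg i) (X.basicOpen_le _ hx)).1 hi ?_
  rw [← Finset.mul_prod_erase _ _ (Finset.mem_univ i), X.basicOpen_mul] at hx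
  exact hx.1

/-- Generators of the components on an affine open with the properties needed to divide by them. -/
structure Nice (d : OmegaSh.Der f Ω') (D : Fin r → X.IdealSheafData) (W : X.affineOpens) where
  g : Fin r → Γ(X, W.1)
  hg : ∀ i, (D i).ideal W = Ideal.span {g i}
  nzd : ∀ i, g i ∈ nonZeroDivisors Γ(X, W.1)
  inj : ∀ w : Γ(Ω', W.1), mres Ω' (inf_le_left : W.1 ⊓ offD D ≤ W.1) w = 0 → w = 0
  coeff : ∀ (w : Γ(Ω', W.1)) (a : Fin r → Γ(X, W.1)),
    (∏ i, g i) • w + ∑ i, (a i * ∏ j ∈ Finset.univ.erase i, g j) • d.app W.1 (g i) = 0 →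
      ∀ i, a i ∈ (D i).ideal W

variable (hd : OmegaSh.IsUniversal d)

include hd in
theorem chart_facts {O : X.Opens} {n : ℕ} {v : ULift.{u} (Fin n) → Γ(O, ⊤)}
    (het : Etale (AffineSpace.homOfVector (O.ι ≫ f) v)) {V : S.Opens} (hV : IsAffineOpen V) {W : X.Opens}
    (hW : IsAffineOpen W) (hWV : W ≤ f ⁻¹ᵁ V) (hWO : W ≤ O) :
    (Function.Bijective fun c : Fin n → Γ(X, W) =>
      ∑ i, c i • d.app W (LogNCD.sectOn O hWO (v (ULift.up i)))) ∧
    ∀ i, LogNCD.sectOn O hWO (v (ULift.up i)) ∈ nonZeroDivisors Γ(X, W) := by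
  let w : ULift.{u} (Fin n) → Γ(X, W) := fun j => LogNCD.sectOn O hWO (v j)
  haveI := het
  have hE : Etale (AffineSpace.homOfVector (W.ι ≫ f) (fun j => W.topIso.inv (w j))) := by
    have e : AffineSpace.homOfVector (W.ι ≫ f) (fun j => W.topIso.inv (w j)) =
        X.homOfLE hWO ≫ AffineSpace.homOfVector (O.ι ≫ f) v := by
      refine AffineSpace.hom_ext ?_ fun j => ?_
      · rw [Category.assoc, AffineSpace.homOfVector_over, AffineSpace.homOfVector_over, ← Category.assoc,
          Scheme.homOfLE_ι]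
      · rw [AffineSpace.homOfVector_appTop_coord, Scheme.Hom.comp_appTop, CategoryTheory.comp_apply,
          AffineSpace.homOfVector_appTop_coord]
        simp only [w, LogNCD.sectOn_apply, Scheme.homOfLE_appTop, Scheme.Opens.topIso_hom,
          Scheme.Opens.topIso_inv, ← CategoryTheory.comp_apply, ← Functor.map_comp]
        rfl
    rw [e]
    infer_instance
  have h1 := KummerTame25.etale_eval₂Hom f hV hW hWV w hE
  letI : Algebra Γ(S, V) Γ(X, W) := (f.appLE V W hWV).hom.toAlgebra
  let z : Fin n → Γ(X, W) := fun i => w (ULift.up i)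
  have hz : NodalEtale14.EtCoord Γ(S, V) z := by
    unfold NodalEtale14.EtCoord
    have e : ((MvPolynomial.aeval z : MvPolynomial (Fin n) Γ(S, V) →ₐ[Γ(S, V)] Γ(X, W)).toRingHom) =
        (MvPolynomial.eval₂Hom (f.appLE V W hWV).hom w).comp
          (MvPolynomial.renameEquiv Γ(S, V) (Equiv.ulift.{u}.symm : Fin n ≃ ULift.{u} (Fin n))).toRingEquiv.toRingHom := by
      refine MvPolynomial.ringHom_ext (fun c => ?_) fun i => ?_
      · simp [RingHom.algebraMap_toAlgebra]
      · simp [z]
    rw [e]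
    exact RingHom.Etale.respectsIso.2 _ _ h1
  constructor
  · obtain ⟨b, hb⟩ := hz.exists_basis
    have hs := Omega12.bijective_sectMap f hd hW hV hWV
    have e : (fun c : Fin n → Γ(X, W) => ∑ i, c i • d.app W (LogNCD.sectOn O hWO (v (ULift.up i)))) =
        (fun y => Omega12.sectMap f d V W hWV y) ∘ fun c => ∑ i, c i • b i := funext fun c => by
      refine Eq.symm ((map_sum (Omega12.sectMap f d V W hWV).hom _ _).trans (Finset.sum_congr rfl fun i _ => ?_))
      refine ((Omega12.sectMap f d V W hWV).hom.map_smul _ _).trans ?_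
      rw [hb i]
      exact congrArg (c i • ·) (Omega12.sectMap_d f d V W hWV (z i))
    rw [e]
    refine hs.comp ?_
    have e2 : (fun c : Fin n → Γ(X, W) => ∑ i, c i • b i) = b.equivFun.symm :=
      funext fun c => (b.equivFun_symm_apply c).symm
    rw [e2]
    exact b.equivFun.symm.bijective
  · intro i
    letI : Algebra (MvPolynomial (Fin n) Γ(S, V)) Γ(X, W) :=
      (MvPolynomial.aeval z : MvPolynomial (Fin n) Γ(S, V) →ₐ[Γ(S, V)] Γ(X, W)).toRingHom.toAlgebra
    haveI : Algebra.Etale (MvPolynomial (Fin n) Γ(S, V)) Γ(X, W) := hz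
    have hXi : IsSMulRegular (MvPolynomial (Fin n) Γ(S, V)) (MvPolynomial.X i) :=
      (MvPolynomial.isRegular_X (R := Γ(S, V)) (n := i)).left.isSMulRegular
    have h2 := IsSMulRegular.of_flat (S := Γ(X, W)) hXi
    rw [mem_nonZeroDivisors_iff_right]
    intro x hx
    refine h2.right_eq_zero_of_smul ?_
    show algebraMap (MvPolynomial (Fin n) Γ(S, V)) Γ(X, W) (MvPolynomial.X i) • x = 0
    rw [smul_eq_mul, mul_comm, RingHom.algebraMap_toAlgebra]
    simpa [z] using hx

include hd in
theorem exists_nice (hD : LogNCD.IsNCD D f) (x : X) (O : X.Opens) (hx : x ∈ O) :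
    ∃ W : X.affineOpens, x ∈ W.1 ∧ W.1 ≤ O ∧ Nonempty (Nice d D W) := by
  classical
  by_cases hne : Nonempty (LogNCD.Through D x)
  · obtain ⟨O', hxO', n, v, e, he, het, h1, h2⟩ := hD x hne
    obtain ⟨V, hV, hxV, -⟩ := exists_isAffineOpen_mem_and_subset (U := (⊤ : S.Opens)) (x := f x) trivial
    obtain ⟨W, hW, hxW, hWle⟩ := exists_isAffineOpen_mem_and_subset (U := O ⊓ (O' ⊓ f ⁻¹ᵁ V)) (x := x) ⟨hx, hxO', hxV⟩
    have hWle : W ≤ O ⊓ (O' ⊓ f ⁻¹ᵁ V) := hWle
    have hWO : W ≤ O' := hWle.trans (inf_le_right.trans inf_le_left)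
    have hWV : W ≤ f ⁻¹ᵁ V := hWle.trans (inf_le_right.trans inf_le_right)
    obtain ⟨hbas, hnz⟩ := chart_facts hd het hV hW hWV hWO
    let z : Fin n → Γ(X, W) := fun j => LogNCD.sectOn O' hWO (v (ULift.up j))
    let g : Fin r → Γ(X, W) := fun i => if hi : x ∈ (D i).support then z (e ⟨i, hi⟩) else 1
    have hg : ∀ i, (D i).ideal ⟨W, hW⟩ = Ideal.span {g i} := fun i => by
      by_cases hi : x ∈ (D i).support
      · simp only [g, dif_pos hi]; exact h1 ⟨i, hi⟩ ⟨W, hW⟩ hWO
      · simp only [g, dif_neg hi]; rw [h2 i hi ⟨W, hW⟩ hWO, Ideal.span_singleton_one]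
    have hnzg : ∀ i, g i ∈ nonZeroDivisors Γ(X, W) := fun i => by
      by_cases hi : x ∈ (D i).support
      · simp only [g, dif_pos hi]; exact hnz _
      · simp only [g, dif_neg hi]; exact one_mem _
    refine ⟨⟨W, hW⟩, hxW, hWle.trans inf_le_left, ⟨⟨g, hg, hnzg, fun w hw => ?_, fun w a hwa i => ?_⟩⟩⟩
    · obtain ⟨c, rfl⟩ := hbas.2 w
      let P := ∏ i, g i
      have hB : IsAffineOpen (X.basicOpen P) := hW.basicOpen P
      have hle : X.basicOpen P ≤ W := X.basicOpen_le P
      obtain ⟨hbasB, -⟩ := chart_facts hd het hV hB (hle.trans hWV) (hle.trans hWO)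
      have h0 : mres Ω' hle (∑ j, c j • d.app W (z j)) = 0 := by
        rw [← mres_mres Ω' (inf_le_left : W ⊓ offD D ≤ W) (basicOpen_prod_le (W := ⟨W, hW⟩) hg), hw, map_zero]
      have hc : (fun j => ores hle (c j)) = 0 := by
        refine hbasB.1 ?_
        show ∑ j, ores hle (c j) • d.app _ _ = ∑ j, (0 : Fin n → Γ(X, X.basicOpen P)) j • d.app _ _
        rw [Finset.sum_eq_zero (f := fun j => (0 : Fin n → Γ(X, X.basicOpen P)) j • _) fun j _ => by
          rw [Pi.zero_apply, zero_smul], ← h0, map_sum]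
        refine Finset.sum_congr rfl fun j _ => ?_
        rw [mres_smul]
        refine congrArg (ores hle (c j) • ·) ?_
        refine Eq.trans ?_ (Omega12.der_res f d hle (z j))
        congr 1
        simp only [z, LogNCD.sectOn_apply, ← CategoryTheory.comp_apply, Category.assoc, ← Functor.map_comp]
        rfl
      have hc0 : c = 0 := funext fun j => by
        letI : Algebra Γ(X, W) Γ(X, X.basicOpen P) := (X.presheaf.map (homOfLE hle).op).hom.toAlgebra
        haveI : IsLocalization.Away P Γ(X, X.basicOpen P) := hW.isLocalization_basicOpen P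
        have hj : algebraMap Γ(X, W) Γ(X, X.basicOpen P) (c j) = 0 := congrFun hc j
        obtain ⟨⟨s, k, rfl⟩, hs⟩ := (IsLocalization.map_eq_zero_iff (.powers P) _ _).1 hj
        exact (mem_nonZeroDivisors_iff.1 (pow_mem (prod_mem fun i _ => hnzg i : P ∈ nonZeroDivisors _) k)).1 _ hs
      subst hc0
      exact Finset.sum_eq_zero fun j _ => by rw [Pi.zero_apply, zero_smul]
    · show a i ∈ (D i).ideal ⟨W, hW⟩
      by_cases hi : x ∈ (D i).support
      swap
      · rw [h2 i hi ⟨W, hW⟩ hWO]; trivial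
      rw [hg i, Ideal.mem_span_singleton']
      obtain ⟨c, rfl⟩ := hbas.2 w
      let Q : Fin r → Γ(X, W) := fun k => ∏ j ∈ Finset.univ.erase k, g j
      let cf : Fin n → Γ(X, W) := fun j => (∏ k, g k) * c j +
        ∑ k ∈ Finset.univ.filter (fun k => ∃ hk : x ∈ (D k).support, e ⟨k, hk⟩ = j), a k * Q k
      have hcf : cf = 0 := by
        refine hbas.1 ?_
        show ∑ j, cf j • d.app W (z j) = ∑ j, (0 : Fin n → Γ(X, W)) j • d.app W (z j)
        rw [Finset.sum_eq_zero (f := fun j => (0 : Fin n → Γ(X, W)) j • _) fun j _ => by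
          rw [Pi.zero_apply, zero_smul], ← hwa]
        simp only [cf, add_smul, Finset.sum_add_distrib, Finset.sum_smul, Finset.smul_sum, smul_smul]
        refine congrArg (_ + ·) ?_
        rw [Finset.sum_sigma' Finset.univ
          (fun j => Finset.univ.filter fun k => ∃ hk : x ∈ (D k).support, e ⟨k, hk⟩ = j)]
        refine Finset.sum_bij_ne_zero (fun p _ _ => p.2) (fun p _ _ => Finset.mem_univ _) ?_ ?_ ?_
        · rintro ⟨j, k⟩ hp _ ⟨j', k'⟩ hp' _ (rfl : k = k')
          simp only [Finset.mem_sigma, Finset.mem_filter] at hp hp'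
          obtain ⟨-, -, hk, rfl⟩ := hp
          obtain ⟨-, -, _, rfl⟩ := hp'
          rfl
        · intro k _ hne
          by_cases hk : x ∈ (D k).support
          · refine ⟨⟨e ⟨k, hk⟩, k⟩, by simp [hk], ?_, rfl⟩
            simpa [g, dif_pos hk, Q] using hne
          · refine absurd ?_ hne
            have : d.app W (g k) = 0 := by simp only [g, dif_neg hk]; exact d.d_one _
            rw [this, smul_zero]
        · rintro ⟨j, k⟩ hp _
          simp only [Finset.mem_sigma, Finset.mem_filter] at hp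
          obtain ⟨-, -, hk, rfl⟩ := hp
          simp [g, dif_pos hk, Q, z]
      have h3 : (∏ k, g k) * c (e ⟨i, hi⟩) + a i * Q i = 0 := by
        have := congrFun hcf (e ⟨i, hi⟩)
        simp only [cf, Pi.zero_apply] at this
        rwa [Finset.sum_eq_single i] at this
        · intro k hk hki
          obtain ⟨-, hk', hke⟩ := Finset.mem_filter.1 hk
          exact absurd (congrArg Subtype.val (he hke)) hki
        · intro h
          exact absurd (Finset.mem_filter.2 ⟨Finset.mem_univ i, hi, rfl⟩) h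
      refine ⟨-c (e ⟨i, hi⟩), ?_⟩
      have hQ : Q i ∈ nonZeroDivisors Γ(X, W) := prod_mem fun j _ => hnzg j
      refine sub_eq_zero.1 ((mem_nonZeroDivisors_iff_right.1 hQ) _ ?_)
      rw [← Finset.mul_prod_erase _ _ (Finset.mem_univ i)] at h3
      linear_combination -h3
  · have hxU : x ∈ offD D := fun hm => by
      obtain ⟨i, hi⟩ := Set.mem_iUnion.1 hm
      exact hne ⟨⟨i, hi⟩⟩
    obtain ⟨W, hW, hxW, hWle⟩ := exists_isAffineOpen_mem_and_subset (U := O ⊓ offD D) (x := x) ⟨hx, hxU⟩
    have hWle : W ≤ O ⊓ offD D := hWle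
    have htop : ∀ i, (D i).ideal ⟨W, hW⟩ = ⊤ := fun i =>
      ideal_eq_top_of_disjoint _ _ fun y hy => notMem_support_of_mem_offD (hWle hy).2 i
    refine ⟨⟨W, hW⟩, hxW, hWle.trans inf_le_left, ⟨⟨fun _ => 1, fun i => by rw [htop, Ideal.span_singleton_one],
      fun i => one_mem _, fun w hw => ?_, fun w a _ i => by rw [htop]; trivial⟩⟩⟩
    have h' : W ≤ W ⊓ offD D := le_inf le_rfl (hWle.trans inf_le_right)
    rw [← mres_id Ω' (le_rfl : W ≤ W) w, ← mres_mres Ω' (inf_le_left : W ⊓ offD D ≤ W) h', hw, map_zero]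

end Groth.Agent.LogNCD28
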