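import Groth.Agent.Lib.LogNCD28.LiftRing
import Groth.Agent.Lib.LogNCD28.Local
import Groth.Agent.Lib.CodimOne28.Main
import Groth.Agent.Lib.EffCartier.Comap

/-!
# Flat lifts of a pair (smooth scheme, normal crossing divisor) on small affine opens
-/

universe u

open CategoryTheory CategoryTheory.Limits AlgebraicGeometry Opposite TopologicalSpace

set_option backward.isDefEq.respectTransparency false
set_option backward.isDefEq.respectTransparency.types false
set_option linter.style.haveILetI false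
set_option maxHeartbeats 1000000

namespace Groth.Agent.LogNCD28

theorem isPushout_of_surjective {A' A C B : CommRingCat.{u}} (π : A' ⟶ A) (a : A' ⟶ C) (φ : A ⟶ B) (ψ : C ⟶ B)
    (w : π ≫ φ = a ≫ ψ) (hψ : Function.Surjective ψ.hom) (hπ : Function.Surjective π.hom)
    (hker : RingHom.ker ψ.hom = (RingHom.ker π.hom).map a.hom) : IsPushout π a φ ψ := by
  refine ⟨⟨w⟩, ⟨PushoutCocone.IsColimit.mk w
    (fun s => CommRingCat.ofHom (ψ.hom.liftOfRightInverse _ (Function.rightInverse_surjInv hψ) ⟨s.inr.hom, ?_⟩))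
    (fun s => ?_) (fun s => ?_) (fun s m _ hm => ?_)⟩⟩
  · rw [hker, Ideal.map_le_iff_le_comap]
    intro t ht
    show s.inr.hom (a.hom t) = 0
    have := congr($(s.condition) t)
    simp only [CommRingCat.comp_apply] at this
    rw [← this, RingHom.mem_ker.1 ht, map_zero]
  · refine CommRingCat.hom_ext (RingHom.ext fun t => ?_)
    obtain ⟨t, rfl⟩ := hπ t
    have h1 := congr($(w) t)
    have h2 := congr($(s.condition) t)
    simp only [CommRingCat.comp_apply] at h1 h2 ⊢
    rw [h1, h2]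
    exact RingHom.liftOfRightInverse_comp_apply ψ.hom _ (Function.rightInverse_surjInv hψ) _ _
  · exact CommRingCat.hom_ext (RingHom.ext fun t => RingHom.liftOfRightInverse_comp_apply ψ.hom _ (Function.rightInverse_surjInv hψ) _ t)
  · refine CommRingCat.hom_ext (RingHom.ext fun t => ?_)
    obtain ⟨t, rfl⟩ := hψ t
    refine Eq.trans (congr($(hm) t)) ?_
    symm
    exact RingHom.liftOfRightInverse_comp_apply ψ.hom _ (Function.rightInverse_surjInv hψ) _ t

theorem flat_subschemeι_ofIdealTop {C A : CommRingCat.{u}} {Y : Scheme.{u}} (a : A ⟶ C) (t : C)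
    (e : Spec A ⟶ Y) [IsOpenImmersion e]
    (h : ((Ideal.Quotient.mk (Ideal.span {t})).comp a.hom).Flat) :
    Flat ((Scheme.IdealSheafData.ofIdealTop (Ideal.span {(Scheme.ΓSpecIso C).inv t})).subschemeι ≫
      Spec.map a ≫ e) := by
  let q : C ⟶ CommRingCat.of (C ⧸ Ideal.span {t}) := CommRingCat.ofHom (Ideal.Quotient.mk _)
  haveI : IsClosedImmersion (Spec.map q) := IsClosedImmersion.spec_of_surjective q Ideal.Quotient.mk_surjective
  have hk : (Spec.map q).ker = Scheme.IdealSheafData.ofIdealTop (Ideal.span {(Scheme.ΓSpecIso C).inv t}) := by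
    refine Scheme.IdealSheafData.ext_of_isAffine ?_
    rw [Scheme.Hom.ker_apply]
    refine Eq.trans ?_ (by simp : Ideal.span {(Scheme.ΓSpecIso C).inv t} = _)
    ext y
    rw [RingHom.mem_ker, Ideal.mem_span_singleton]
    obtain ⟨y, rfl⟩ := (Scheme.ΓSpecIso C).commRingCatIsoToRingEquiv.symm.surjective y
    have h1 := congr($(Scheme.ΓSpecIso_inv_naturality q) y)
    simp only [CommRingCat.comp_apply] at h1
    show (Spec.map q).appTop ((Scheme.ΓSpecIso C).inv y) = 0 ↔
      (Scheme.ΓSpecIso C).commRingCatIsoToRingEquiv.symm t ∣ (Scheme.ΓSpecIso C).commRingCatIsoToRingEquiv.symm y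
    rw [← h1, map_dvd_iff, ← Ideal.mem_span_singleton, ← Ideal.Quotient.eq_zero_iff_mem]
    exact map_eq_zero_iff _ (Scheme.ΓSpecIso _).commRingCatIsoToRingEquiv.symm.injective
  have hf : Flat (Spec.map q ≫ Spec.map a ≫ e) := by
    haveI : Flat (Spec.map (a ≫ q)) := (HasRingHomProperty.Spec_iff (P := @Flat)).2 h
    rw [← Spec.map_comp_assoc]
    infer_instance
  rw [← hk]
  have he : (Spec.map q).ker.subschemeι ≫ Spec.map a ≫ e =
      inv (Spec.map q).toImage ≫ Spec.map q ≫ Spec.map a ≫ e := by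
    rw [IsIso.eq_inv_comp]
    exact ((Spec.map q).toImage_imageι_assoc _)
  show Flat ((Spec.map q).ker.subschemeι ≫ Spec.map a ≫ e)
  rw [he]
  haveI := hf
  infer_instance

variable {X S Sl : Scheme.{u}} {f : X ⟶ S} {r : ℕ}

theorem exists_lift_of_chart (iS : S ⟶ Sl) [IsClosedImmersion iS] {V' : Sl.Opens} (hV' : IsAffineOpen V')
    {U : X.Opens} (hU : IsAffineOpen U) (hUV : U ≤ f ⁻¹ᵁ (iS ⁻¹ᵁ V')) {n : ℕ}
    (D : Fin r → X.IdealSheafData) (k : Fin r → Option (Fin n))
    (φ : MvPolynomial (Fin n) Γ(S, iS ⁻¹ᵁ V') →+* Γ(X, U))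
    (hφC : φ.comp MvPolynomial.C = (f.appLE (iS ⁻¹ᵁ V') U hUV).hom)
    (hst : @Algebra.IsStandardEtale (MvPolynomial (Fin n) Γ(S, iS ⁻¹ᵁ V')) Γ(X, U) _ _ φ.toAlgebra)
    (hk : ∀ m, (D m).ideal ⟨U, hU⟩ = Ideal.span {(k m).elim 1 fun i => φ (MvPolynomial.X i)}) :
    ∃ (Ul : Scheme.{u}) (g : Ul ⟶ Sl) (j : (U : Scheme.{u}) ⟶ Ul),
      Flat g ∧ IsPullback j (U.ι ≫ f) g iS ∧
        ∃ Dl : Fin r → Ul.IdealSheafData, ∀ m, (Dl m).comap j = (D m).comap U.ι ∧
          Flat ((Dl m).subschemeι ≫ g) := by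
  haveI : IsAffine U := hU
  let V := iS ⁻¹ᵁ V'
  have hV : IsAffineOpen V := hV'.preimage iS
  letI : Algebra Γ(S, V) Γ(X, U) := (f.appLE V U hUV).hom.toAlgebra
  letI : Algebra (MvPolynomial (Fin n) Γ(S, V)) Γ(X, U) := φ.toAlgebra
  haveI := hst
  haveI : IsScalarTower Γ(S, V) (MvPolynomial (Fin n) Γ(S, V)) Γ(X, U) :=
    IsScalarTower.of_algebraMap_eq' hφC.symm
  have hπ : Function.Surjective (iS.app V').hom := iS.app_surjective V' hV'
  obtain ⟨C', _, a, ψ, c, ha, hψ, hcomp, hker, hc, hcq⟩ := exists_lift (B := Γ(X, U)) (iS.app V').hom hπ (n := n)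
  let aH : Γ(Sl, V') ⟶ CommRingCat.of C' := CommRingCat.ofHom a
  let ψH : CommRingCat.of C' ⟶ Γ(X, U) := CommRingCat.ofHom ψ
  let j : (U : Scheme.{u}) ⟶ Spec (.of C') := hU.isoSpec.hom ≫ Spec.map ψH
  have hg : Flat (Spec.map aH ≫ hV'.fromSpec) := by
    haveI : Flat (Spec.map aH) := (HasRingHomProperty.Spec_iff (P := @Flat)).2 ha
    infer_instance
  refine ⟨Spec (.of C'), Spec.map aH ≫ hV'.fromSpec, j, hg, ?_, ?_⟩
  · have hp : IsPushout (iS.app V') aH (f.appLE V U hUV) ψH :=
      isPushout_of_surjective _ _ _ _ (CommRingCat.hom_ext hcomp.symm) hψ hπ hker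
    have h2 := CodimOne28.isPullback_fromSpec iS hV' hV rfl
    rw [show iS.appLE V' V _ = iS.app V' from Scheme.Hom.appLE_eq_app iS] at h2
    have h3 := ((isPullback_SpecMap_of_isPushout _ _ _ _ hp).paste_horiz h2).flip
    have h4 : IsPullback j (U.ι ≫ f) (Spec.map aH ≫ hV'.fromSpec) iS := by
      refine IsPullback.of_iso h3 hU.isoSpec.symm (Iso.refl _) (Iso.refl _) (Iso.refl _) ?_ ?_ (by simp) (by simp)
      · simp [j]
      · simp only [Iso.symm_hom, Iso.refl_hom, Category.comp_id]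
        rw [← IsAffineOpen.isoSpec_hom_fromSpec hU, Category.assoc, Iso.inv_hom_id_assoc]
        exact IsAffineOpen.SpecMap_appLE_fromSpec f hV hU hUV
    exact h4
  · let cc : Fin r → C' := fun m => (k m).elim 1 c
    have hψcc : ∀ m, ψ (cc m) = (k m).elim 1 fun i => φ (MvPolynomial.X i) := fun m => by
      cases hm : k m with
      | none => simp [cc, hm]
      | some i => simp [cc, hm, hc, RingHom.algebraMap_toAlgebra]
    refine ⟨fun m => Scheme.IdealSheafData.ofIdealTop (Ideal.span {(Scheme.ΓSpecIso (.of C')).inv (cc m)}),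
      fun m => ⟨?_, ?_⟩⟩
    · refine Scheme.IdealSheafData.ext_of_isAffine ?_
      rw [EffCartier.comap_ideal_top,
        EffCartier.comap_ideal (D m) U.ι ⟨U, hU⟩ ⟨⊤, isAffineOpen_top _⟩ (by simp), hk m,
        ← hψcc m]
      simp only [Scheme.IdealSheafData.ofIdealTop_ideal, homOfLE_refl, op_id, CategoryTheory.Functor.map_id,
        CommRingCat.hom_id, Ideal.map_id, Ideal.map_span, Set.image_singleton]
      congr 2
      have h1 := congr($(Scheme.ΓSpecIso_inv_naturality ψH) (cc m))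
      simp only [CategoryTheory.comp_apply] at h1
      simp only [j, Scheme.Hom.comp_appTop, CategoryTheory.comp_apply, IsAffineOpen.isoSpec_hom_appTop, RingHom.id_apply]
      erw [← h1]
      simp only [Iso.inv_hom_id_apply, Scheme.Opens.ι_appLE, Scheme.Opens.topIso_inv]
      rfl
    · refine flat_subschemeι_ofIdealTop aH (cc m) hV'.fromSpec ?_
      cases hm : k m with
      | some i =>
        rw [show cc m = c i by simp [cc, hm]]
        exact hcq i
      | none =>
        haveI : Subsingleton (C' ⧸ Ideal.span {cc m}) := Ideal.Quotient.subsingleton_iff.2 (by simp [cc, hm])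
        letI := ((Ideal.Quotient.mk (Ideal.span {cc m})).comp a).toAlgebra
        show Module.Flat _ (C' ⧸ Ideal.span {cc m})
        infer_instance

end Groth.Agent.LogNCD28
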