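import Mathlib

set_option linter.style.haveILetI false
set_option maxHeartbeats 400000

universe u

open Polynomial TensorProduct

namespace Groth.Agent.LogNCD28

variable {A' A B : Type u} [CommRing A'] [CommRing A] [CommRing B] [Algebra A B]

theorem flat_quot_X {n : ℕ} (i : Fin n) :
    Module.Flat A' (MvPolynomial (Fin n) A' ⧸ Ideal.span {(MvPolynomial.X i : MvPolynomial (Fin n) A')}) := by
  classical
  let I : Ideal (MvPolynomial (Fin n) A') := Ideal.span {MvPolynomial.X i}
  let e : MvPolynomial (Fin n) A' →ₐ[A'] MvPolynomial (Fin n) A' :=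
    MvPolynomial.aeval fun j => if j = i then 0 else MvPolynomial.X j
  have he : ∀ a ∈ I, e a = 0 := by
    intro a ha
    obtain ⟨b, rfl⟩ := Ideal.mem_span_singleton'.1 ha
    simp [e]
  have h : (Ideal.Quotient.mkₐ A' I).comp e = Ideal.Quotient.mkₐ A' I := by
    refine MvPolynomial.algHom_ext fun j => ?_
    by_cases hj : j = i
    · subst hj
      simp only [AlgHom.comp_apply, e, MvPolynomial.aeval_X, if_true, map_zero, Ideal.Quotient.mkₐ_eq_mk]
      have hmem : (MvPolynomial.X j : MvPolynomial (Fin n) A') ∈ I := Ideal.mem_span_singleton_self _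
      exact ((Ideal.Quotient.eq_zero_iff_mem (I := I)).2 hmem).symm
    · simp only [AlgHom.comp_apply, e, MvPolynomial.aeval_X, if_neg hj]
  let l : (MvPolynomial (Fin n) A' ⧸ I) →ₗ[A'] MvPolynomial (Fin n) A' :=
    (Ideal.Quotient.liftₐ I e he).toLinearMap
  let m : MvPolynomial (Fin n) A' →ₗ[A'] (MvPolynomial (Fin n) A' ⧸ I) :=
    (Ideal.Quotient.mkₐ A' I).toLinearMap
  have hlm : m.comp l = LinearMap.id := by
    refine LinearMap.ext fun x => ?_
    obtain ⟨y, rfl⟩ := Ideal.Quotient.mk_surjective x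
    exact AlgHom.congr_fun h y
  exact Module.Flat.of_retract l m hlm

/-- A standard étale algebra over a polynomial ring lifts along a surjection of the base. -/
theorem exists_lift (π : A' →+* A) (hπ : Function.Surjective π) {n : ℕ}
    [Algebra (MvPolynomial (Fin n) A) B] [IsScalarTower A (MvPolynomial (Fin n) A) B]
    [Algebra.IsStandardEtale (MvPolynomial (Fin n) A) B] :
    ∃ (C' : Type u) (_ : CommRing C') (a : A' →+* C') (ψ : C' →+* B) (c : Fin n → C'),
      a.Flat ∧ Function.Surjective ψ ∧ ψ.comp a = (algebraMap A B).comp π ∧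
      RingHom.ker ψ = (RingHom.ker π).map a ∧
      (∀ i, ψ (c i) = algebraMap (MvPolynomial (Fin n) A) B (MvPolynomial.X i)) ∧
      (∀ i, ((Ideal.Quotient.mk (Ideal.span {c i})).comp a).Flat) := by
  let R := MvPolynomial (Fin n) A
  let R' := MvPolynomial (Fin n) A'
  let ρ : R' →+* R := MvPolynomial.map π
  have hρ : Function.Surjective ρ := MvPolynomial.map_surjective π hπ
  let P : StandardEtalePresentation R B := Algebra.IsStandardEtale.nonempty_standardEtalePresentation.some
  obtain ⟨f', hf', -, hfm⟩ := Polynomial.lifts_and_natDegree_eq_and_monic (f := ρ)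
    ((Polynomial.mem_lifts _).2 (Polynomial.map_surjective ρ hρ P.f)) P.monic_f
  obtain ⟨gl, hgl⟩ := Polynomial.map_surjective ρ hρ P.g
  let P' : StandardEtalePair R' := ⟨f', hfm, gl * derivative f', ⟨gl, 0, 1, by ring⟩⟩
  let C' := P'.Ring
  letI : Algebra R' B := ((algebraMap R B).comp ρ).toAlgebra
  have haev : ∀ q : R'[X], aeval P.x q = aeval P.x (q.map ρ) := fun q => by
    simp only [aeval_def, eval₂_map]
    rfl
  have hx : P'.HasMap P.x := by
    refine ⟨?_, ?_⟩
    · rw [haev, hf']; exact P.hasMap.1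
    · rw [map_mul, haev, hgl, haev, ← derivative_map, hf']
      exact P.hasMap.2.mul P.hasMap.isUnit_derivative_f
  let ψA : C' →ₐ[R'] B := P'.lift P.x hx
  have hψX : ψA P'.X = P.x := P'.lift_X _ _
  let a : A' →+* C' := (algebraMap R' C').comp MvPolynomial.C
  have hψa : ψA.toRingHom.comp a = (algebraMap A B).comp π := by
    refine RingHom.ext fun t => ?_
    show ψA (algebraMap R' C' (MvPolynomial.C t)) = _
    rw [AlgHom.commutes]
    show algebraMap R B (MvPolynomial.map π (MvPolynomial.C t)) = _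
    rw [MvPolynomial.map_C, ← MvPolynomial.algebraMap_eq, ← IsScalarTower.algebraMap_apply]
    rfl
  let J : Ideal C' := (RingHom.ker π).map a
  have hJle : J ≤ RingHom.ker ψA.toRingHom := Ideal.map_le_iff_le_comap.2 fun t ht => by
    show ψA.toRingHom.comp a t = 0
    rw [hψa, RingHom.comp_apply, RingHom.mem_ker.1 ht, map_zero]
  let Q0 := C' ⧸ J
  let q : C' →+* Q0 := Ideal.Quotient.mk J
  have hkerρ : RingHom.ker ρ ≤ RingHom.ker (q.comp (algebraMap R' C')) := by
    rw [show RingHom.ker ρ = (RingHom.ker π).map MvPolynomial.C from MvPolynomial.ker_map π, Ideal.map_le_iff_le_comap]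
    intro t ht
    exact Ideal.Quotient.eq_zero_iff_mem.2 (Ideal.mem_map_of_mem a ht)
  let ι : R →+* Q0 := ρ.liftOfRightInverse _ (Function.rightInverse_surjInv hρ) ⟨_, hkerρ⟩
  have hι : ∀ t, ι (ρ t) = q (algebraMap R' C' t) := fun t =>
    RingHom.liftOfRightInverse_comp_apply _ _ _ _ t
  letI : Algebra R Q0 := ι.toAlgebra
  have haevQ : ∀ p : R'[X], aeval (q P'.X) (p.map ρ) = q (aeval P'.X p) := fun p => by
    rw [aeval_def, eval₂_map, aeval_def, hom_eval₂]
    congr 1
    exact RingHom.ext hι
  have hy : P.HasMap (q P'.X) := by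
    refine ⟨?_, ?_⟩
    · rw [← hf', haevQ, P'.hasMap_X.1, map_zero]
    · rw [← hgl, haevQ]
      refine (isUnit_of_mul_isUnit_left (y := aeval P'.X (derivative f')) ?_).map q
      rw [← map_mul]
      exact P'.hasMap_X.2
  let s : B →ₐ[R] Q0 := (P.P.lift (q P'.X) hy).comp P.equivRing.toAlgHom
  have hsx : s P.x = q P'.X := by simp [s]
  letI : Algebra R' Q0 := (q.comp (algebraMap R' C')).toAlgebra
  let sψ : C' →ₐ[R'] Q0 :=
    { s.toRingHom.comp ψA.toRingHom with
      commutes' := fun t => by
        show s (ψA (algebraMap R' C' t)) = _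
        rw [AlgHom.commutes]
        show s (algebraMap R B (ρ t)) = _
        rw [AlgHom.commutes]
        exact hι t }
  let qA : C' →ₐ[R'] Q0 := { q with commutes' := fun t => rfl }
  have hsψ : sψ = qA := P'.hom_ext (by
    show s (ψA P'.X) = q P'.X
    rw [hψX, hsx])
  have hker : RingHom.ker ψA.toRingHom = J := by
    refine le_antisymm (fun t ht => Ideal.Quotient.eq_zero_iff_mem.1 ?_) hJle
    refine (AlgHom.congr_fun hsψ t).symm.trans ?_
    show s (ψA.toRingHom t) = 0
    rw [RingHom.mem_ker.1 ht, map_zero]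
  have hsurj : Function.Surjective ψA := by
    intro b
    obtain ⟨c, hc⟩ := Ideal.Quotient.mk_surjective (s b)
    refine ⟨c, ?_⟩
    let L : Q0 →+* B := Ideal.Quotient.lift J ψA.toRingHom hJle
    let LA : Q0 →ₐ[R] B :=
      { L with
        commutes' := fun t => by
          obtain ⟨t, rfl⟩ := hρ t
          show L (ι (ρ t)) = _
          rw [hι]
          exact ψA.commutes t }
    have hid : LA.comp s = AlgHom.id R B := P.hom_ext (by
      show L (s P.x) = P.x
      rw [hsx]
      exact hψX)
    have : L (s b) = b := AlgHom.congr_fun hid b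
    rw [← hc] at this
    exact this
  letI : Algebra A' C' := a.toAlgebra
  haveI : IsScalarTower A' R' C' := IsScalarTower.of_algebraMap_eq fun _ => rfl
  haveI : Module.Flat R' C' := inferInstance
  refine ⟨C', inferInstance, a, ψA.toRingHom, fun i => algebraMap R' C' (MvPolynomial.X i), ?_, hsurj, hψa, hker,
    fun i => ?_, fun i => ?_⟩
  · exact Module.Flat.trans A' R' C'
  · show ψA (algebraMap R' C' (MvPolynomial.X i)) = _
    rw [AlgHom.commutes]
    show algebraMap R B (MvPolynomial.map π (MvPolynomial.X i)) = _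
    rw [MvPolynomial.map_X]
  · let I : Ideal R' := Ideal.span {MvPolynomial.X i}
    haveI : Module.Flat A' (R' ⧸ I) := flat_quot_X i
    haveI h1 : Module.Flat (R' ⧸ I) ((R' ⧸ I) ⊗[R'] C') := inferInstance
    haveI h2 : Module.Flat A' ((R' ⧸ I) ⊗[R'] C') := Module.Flat.trans A' (R' ⧸ I) _
    have e1 : (C' ⧸ I.map (algebraMap R' C')) ≃ₗ[R'] ((R' ⧸ I) ⊗[R'] C') :=
      ((Algebra.TensorProduct.quotIdealMapEquivTensorQuot C' I).toLinearEquiv.restrictScalars R').trans
        (TensorProduct.comm R' _ _)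
    have h3 : Module.Flat A' (C' ⧸ I.map (algebraMap R' C')) := Module.Flat.of_linearEquiv (e1.restrictScalars A')
    have e2 : I.map (algebraMap R' C') = Ideal.span {algebraMap R' C' (MvPolynomial.X i)} := by
      rw [Ideal.map_span, Set.image_singleton]
    rw [e2] at h3
    exact h3

end Groth.Agent.LogNCD28
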