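import Groth.Prelude.Def_LogNCD2
import Groth.Agent.Lib.NumConn10.Stalk
import Groth.Agent.Lib.CurveCoh17.TensorExact
import Groth.Agent.Lib.KoszShH13.TwistMain
import Groth.Agent.Lib.ExtLift23.Basic
import Groth.Agent.Lib.CohMop.Bidual

/-!
# Residues of logarithmic connections
-/

universe u

open CategoryTheory CategoryTheory.Limits AlgebraicGeometry Opposite TopologicalSpace
open scoped TensorProduct

set_option backward.isDefEq.respectTransparency false
set_option backward.isDefEq.respectTransparency.types false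

noncomputable section

namespace Groth.Agent.LogNCD28

open Groth.Agent.CurveCoh17 (stalkLin)

variable {X : Scheme.{u}}

/-- Right exactness of tensoring. -/
theorem exact_tensorR {S : ShortComplex X.Modules} (hS : S.ShortExact) (E : X.Modules) :
    (S.map (M2.tensorR E)).Exact := by
  haveI := hS.epi_g
  rw [M1.exact_iff_stalk_eq_zero]
  intro x b hb
  have hsurj : Function.Surjective (stalkLin S.g x) := (M1.epi_iff_stalk S.g).1 hS.epi_g x
  have hex : Function.Exact (stalkLin S.f x) (stalkLin S.g x) := by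
    intro c
    refine ⟨fun hc => (M1.exact_iff_stalk_eq_zero S).1 hS.exact x c hc, ?_⟩
    rintro ⟨a, rfl⟩
    show ((M1.stalkAb x).map S.f ≫ (M1.stalkAb x).map S.g) a = 0
    rw [← Functor.map_comp, S.zero, Functor.map_zero]
    rfl
  have hex' := rTensor_exact (E.presheaf.stalk x) hex hsurj
  have h0 : LinearMap.rTensor (E.presheaf.stalk x) (stalkLin S.g x) (M2.stalkEquiv S.X₂ E x b) = 0 := by
    rw [← CurveCoh17.stalkEquiv_natural]
    exact (congrArg _ hb).trans (map_zero _)
  obtain ⟨c, hc⟩ := (hex' _).1 h0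
  obtain ⟨a, rfl⟩ := (M2.stalkEquiv S.X₁ E x).surjective c
  refine ⟨a, (M2.stalkEquiv S.X₂ E x).injective ?_⟩
  rw [← hc]
  exact CurveCoh17.stalkEquiv_natural S.f E x a

/-- `E ⊗ O_Z` is killed by the ideal of `Z`. -/
theorem smul_eq_zero_of_mem (E : X.Modules) (I : X.IdealSheafData) {U : X.Opens} (a : Γ(ClSub.idealMod I, U))
    (t : Γ(CohB1.tensorMod E (ClSub.quotMod I), U)) : M2.idealIncl I a • t = 0 := by
  refine M1.section_ext _ _ fun x hx => ?_
  rw [M1.germ_smul, map_zero]
  set c := X.presheaf.germ U x hx (M2.idealIncl I a) with hcdef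
  have h1 : c • stalkLin (ClSub.toSubscheme I) x (NumConn10.oneAt x) = 0 := by
    rw [← map_smul]
    have e : c • NumConn10.oneAt x = (Coh.structureModule X).presheaf.germ U x hx
        (M2.idealIncl I a • M1.mres _ le_top (M1.one (X := X) ⊤)) := by
      rw [M1.germ_smul, M1.germ_mres]
    rw [e]
    refine (M1.germ_naturality (ClSub.toSubscheme I) U x hx _).trans ?_
    have e' : (M2.idealIncl I a • M1.mres (Coh.structureModule X) le_top (M1.one (X := X) ⊤) :
        Γ(Coh.structureModule X, U)) = (ClSub.idealModι I).app U a := by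
      show M2.idealIncl I a * X.presheaf.map _ 1 = _
      rw [map_one, mul_one]
      rfl
    rw [e']
    refine (congrArg _ ?_).trans (map_zero _)
    exact M2.subschemeι_app_idealIncl I a
  have h2 : ∀ q : (ClSub.quotMod I).presheaf.stalk x, c • q = 0 := by
    intro q
    obtain ⟨b, rfl⟩ := NumConn10.surjective_toSubscheme I x q
    obtain ⟨e, rfl⟩ := NumConn10.exists_smul_one x b
    rw [map_smul, smul_comm, h1, smul_zero]
  refine (M2.stalkEquiv E (ClSub.quotMod I) x).injective ?_
  rw [map_smul, map_zero]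
  generalize (M2.stalkEquiv E (ClSub.quotMod I) x) _ = z
  induction z with
  | zero => rw [smul_zero]
  | tmul e q => rw [← TensorProduct.tmul_smul, h2, TensorProduct.tmul_zero]
  | add y z hy hz => rw [smul_add, hy, hz, add_zero]

/-- The restriction map `E ⟶ E ⊗ O_Z`. -/
abbrev restr (E : X.Modules) (I : X.IdealSheafData) : E ⟶ CohB1.tensorMod E (ClSub.quotMod I) :=
  (SecTwist.unitorR E).inv ≫ KoszTw.tensorMap (𝟙 E) (ClSub.toSubscheme I)

theorem restr_app (E : X.Modules) (I : X.IdealSheafData) (U : X.Opens) (e : Γ(E, U)) :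
    (restr E I).app U e =
      SecTwist.tmul E (ClSub.quotMod I) U e ((ClSub.toSubscheme I).app U (show Γ(X, U) from 1)) := by
  show (KoszTw.tensorMap (𝟙 E) (ClSub.toSubscheme I)).app U ((SecTwist.unitorR E).inv.app U e) = _
  rw [KoszShH13.unitorR_inv_app, KoszTw.tensorMap_tmul]
  rfl

/-- An endomorphism-valued map factors through the restriction. -/
theorem exists_factor (E : X.Modules) (I : X.IdealSheafData) (ρ : E ⟶ CohB1.tensorMod E (ClSub.quotMod I)) :
    ∃ R, restr E I ≫ R = ρ := by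
  haveI := M2.epi_toSubscheme I
  haveI : Epi ((M2.tensorR E).map (ClSub.toSubscheme I)) := CohFound.epi_tensorMap _ E
  let S := (ShortComplex.mk (ClSub.idealModι I) (ClSub.toSubscheme I) (kernel.condition _)).map (M2.tensorR E)
  have hS : S.Exact := exact_tensorR (M2.shortExact_idealMod I) E
  haveI : Epi S.g := CohFound.epi_tensorMap _ E
  have hz : S.f ≫ ((M2.tensorLUnit E).hom ≫ ρ) = 0 := by
    refine M2.tensorMod_hom_ext fun U a e => ?_
    show ρ.app U ((M2.tensorLUnit E).hom.app U ((M2.tensorMap (ClSub.idealModι I) (𝟙 E)).app U (M2.tsec _ E a e))) = 0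
    rw [M2.tensorMap_tsec]
    erw [ExtLift23.tensorLUnit_tsec (M := E) (M2.idealIncl I a) e]
    rw [Scheme.Modules.Hom.app_smul, smul_eq_zero_of_mem]
  have key : (M2.tensorLUnit E).hom ≫ restr E I =
      M2.tensorMap (ClSub.toSubscheme I) (𝟙 E) ≫ (M2.tensorComm (ClSub.quotMod I) E).hom := by
    refine M2.tensorMod_hom_ext fun U a e => ?_
    show (restr E I).app U ((M2.tensorLUnit E).hom.app U (M2.tsec _ E a e)) =
      (M2.tensorComm (ClSub.quotMod I) E).hom.app U
        ((M2.tensorMap (ClSub.toSubscheme I) (𝟙 E)).app U (M2.tsec _ E a e))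
    rw [M2.tensorMap_tsec, CohMop.tensorComm_tsec']
    erw [ExtLift23.tensorLUnit_tsec (M := E) (show Γ(X, U) from a) e]
    rw [restr_app]
    show M2.tsec E _ ((show Γ(X, U) from a) • e) _ = M2.tsec E _ e _
    rw [M2.tsec_smul_left, ← M2.tsec_smul_right]
    congr 1
    refine (Scheme.Modules.Hom.app_smul (ClSub.toSubscheme I) (show Γ(X, U) from a) _).symm.trans ?_
    congr 1
    exact mul_one (show Γ(X, U) from a)
  refine ⟨(M2.tensorComm (ClSub.quotMod I) E).inv ≫ hS.desc _ hz, ?_⟩
  rw [← cancel_epi (M2.tensorLUnit E).hom, ← Category.assoc, key, Category.assoc, Iso.hom_inv_id_assoc]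
  exact hS.g_desc _ hz

variable {S : Scheme.{u}} {f : X ⟶ S} {Ω' : X.Modules} {d : OmegaSh.Der f Ω'} {r : ℕ}
  {D : Fin r → X.IdealSheafData}

/-- The residue of a logarithmic connection, as a linear map. -/
theorem exists_isResidue (Λ : LogNCD.LogMod d D) (E : X.Modules)
    (nabla : Coh.toAb E ⟶ Coh.toAb (CohB1.tensorMod E Λ.L)) (hc : ConnSh.IsConn (LogNCD.der Λ) E nabla)
    (i : Fin r) : ∃ ρ, LogNCD.IsResidue Λ E nabla i ρ := by
  let τ : CohB1.tensorMod E Λ.L ⟶ CohB1.tensorMod E (ClSub.quotMod (D i)) := KoszTw.tensorMap (𝟙 E) (Λ.res i)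
  let ψ := nabla ≫ (SheafOfModules.toSheaf X.ringCatSheaf).map τ
  have lin : ∀ (V : X.Opens) (t : Γ(X, V)) (e : Γ(E, V)),
      τ.app V (ConnSh.secApp nabla V (t • e)) = t • τ.app V (ConnSh.secApp nabla V e) := by
    intro V t e
    rw [hc V t e, map_add, Scheme.Modules.Hom.app_smul, KoszTw.tensorMap_tmul]
    refine add_eq_left.2 ?_
    rw [show (Λ.res i).app V ((LogNCD.der Λ).app V t) = 0 from
      congrArg (fun φ : Ω' ⟶ ClSub.quotMod (D i) => φ.app V (d.app V t)) (Λ.res_ι i)]
    show M2.tsec E (ClSub.quotMod (D i)) _ 0 = 0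
    rw [← zero_smul Γ(X, V) (0 : Γ(ClSub.quotMod (D i), V)), M2.tsec_smul_right, zero_smul]
  refine ⟨⟨PresheafOfModules.homMk ψ.hom (fun V t e => lin V.unop t e)⟩, ?_⟩
  ext V e
  rfl

end Groth.Agent.LogNCD28
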