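import Groth.Agent.Lib.LogNCD28.Basic
import Groth.Agent.Lib.ModM1.Stalk

/-!
# The inclusion of the log module of a sub-family
-/

universe u

open CategoryTheory CategoryTheory.Limits AlgebraicGeometry Opposite TopologicalSpace
open Groth.Agent.M1

set_option backward.isDefEq.respectTransparency false

namespace Groth.Agent.LogNCD28

variable {X S : Scheme.{u}} {f : X ⟶ S} {Ω' : X.Modules} {d : OmegaSh.Der f Ω'} {r r' : ℕ}
  {D : Fin r → X.IdealSheafData} {σ : Fin r' → Fin r}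
  (Λ : LogNCD.LogMod d D) (Λ' : LogNCD.LogMod d (D ∘ σ))

/-- `y` is the form with poles given by the same rational form as `x`. -/
def Rel (W : X.Opens) (g : Fin r → Γ(X, W)) (x : Γ(Λ'.L, W)) (y : Γ(Λ.L, W)) : Prop :=
  ∃ w : Γ(Ω', W), (∏ i, g i) • x = Λ'.ι.app W w ∧ (∏ i, g i) • y = Λ.ι.app W w

/-- The relation on an arbitrary open. -/
def G (V : X.Opens) (x : Γ(Λ'.L, V)) (y : Γ(Λ.L, V)) : Prop :=
  ∀ (W : X.affineOpens) (hW : W.1 ≤ V) (g : Fin r → Γ(X, W.1)),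
    (∀ i, (D i).ideal W = Ideal.span {g i}) → Rel Λ Λ' W.1 g (mres _ hW x) (mres _ hW y)

theorem ideal_res {W W' : X.affineOpens} (h : W'.1 ≤ W.1) (g : Fin r → Γ(X, W.1))
    (hg : ∀ i, (D i).ideal W = Ideal.span {g i}) (i : Fin r) :
    (D i).ideal W' = Ideal.span {ores h (g i)} := by
  rw [← (D i).map_ideal (U := W') (V := W) h, hg, Ideal.map_span, Set.image_singleton]
  rfl

theorem rel_mres {W W' : X.Opens} (h : W' ≤ W) {g : Fin r → Γ(X, W)} {x : Γ(Λ'.L, W)} {y : Γ(Λ.L, W)}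
    (H : Rel Λ Λ' W g x y) : Rel Λ Λ' W' (fun i => ores h (g i)) (mres _ h x) (mres _ h y) := by
  obtain ⟨w, h1, h2⟩ := H
  refine ⟨mres _ h w, ?_, ?_⟩
  · rw [app_mres, ← h1, mres_smul, map_prod]
  · rw [app_mres, ← h2, mres_smul, map_prod]

theorem exists_rel (W : X.affineOpens) (g : Fin r → Γ(X, W.1))
    (hg : ∀ i, (D i).ideal W = Ideal.span {g i}) (x : Γ(Λ'.L, W.1)) : ∃ y, Rel Λ Λ' W.1 g x y := by
  classical
  obtain ⟨C, hC⟩ := nonempty_chart Λ W g hg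
  obtain ⟨C', hC'⟩ := nonempty_chart Λ' W (g ∘ σ) fun j => hg (σ j)
  obtain ⟨w, a, rfl⟩ := C'.gen x
  let Q : Fin r' → Γ(X, W.1) := fun j => ∏ i ∈ Finset.univ.erase (σ j), g i
  have hQ : ∀ j, (∏ i, g i) = Q j * g (σ j) := fun j =>
    (Finset.prod_erase_mul _ _ (Finset.mem_univ _)).symm
  refine ⟨Λ.ι.app W.1 w + ∑ j, a j • C.dl (σ j),
    (∏ i, g i) • w + ∑ j, (a j * Q j) • d.app W.1 (g (σ j)), ?_, ?_⟩
  · rw [smul_add, Finset.smul_sum, map_add, map_sum, Scheme.Modules.Hom.app_smul]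
    refine congrArg (_ + ·) (Finset.sum_congr rfl fun j _ => ?_)
    have e := C'.gdl j
    rw [hC'] at e
    rw [Scheme.Modules.Hom.app_smul]
    refine Eq.trans ?_ (congrArg (fun z => (a j * Q j) • z) e)
    rw [smul_smul, smul_smul, hQ j]
    congr 1
    show Q j * g (σ j) * a j = a j * Q j * g (σ j)
    ring
  · rw [smul_add, Finset.smul_sum, map_add, map_sum, Scheme.Modules.Hom.app_smul]
    refine congrArg (_ + ·) (Finset.sum_congr rfl fun j _ => ?_)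
    have e := C.gdl (σ j)
    rw [hC] at e
    rw [Scheme.Modules.Hom.app_smul]
    refine Eq.trans ?_ (congrArg (fun z => (a j * Q j) • z) e)
    rw [smul_smul, smul_smul, hQ j]
    congr 1
    ring

theorem rel_unique {W : X.affineOpens} {g g' : Fin r → Γ(X, W.1)}
    (hg : ∀ i, (D i).ideal W = Ideal.span {g i}) (hg' : ∀ i, (D i).ideal W = Ideal.span {g' i})
    {x : Γ(Λ'.L, W.1)} {y y' : Γ(Λ.L, W.1)} (H : Rel Λ Λ' W.1 g x y) (H' : Rel Λ Λ' W.1 g' x y') :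
    y = y' := by
  haveI := Λ'.mono
  obtain ⟨w, h1, h2⟩ := H
  obtain ⟨w', h1', h2'⟩ := H'
  have hw : (∏ i, g' i) • w = (∏ i, g i) • w' := by
    refine app_injective Λ'.ι W.1 ?_
    rw [Scheme.Modules.Hom.app_smul, Scheme.Modules.Hom.app_smul, ← h1, ← h1', smul_smul, smul_smul,
      mul_comm]
  obtain ⟨h0, -⟩ := Λ.rule W g hg
  obtain ⟨h0', -⟩ := Λ.rule W g' hg'
  refine sub_eq_zero.1 (h0 _ (h0' _ ?_))
  show (∏ i, g' i) • ((∏ i, g i) • (y - y' : Γ(Λ.L, W.1))) = 0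
  rw [smul_sub, smul_sub, h2, smul_smul, mul_comm, ← smul_smul, h2', ← Scheme.Modules.Hom.app_smul,
    ← Scheme.Modules.Hom.app_smul, hw, sub_self]

theorem g_mres {V V' : X.Opens} (h : V' ≤ V) {x : Γ(Λ'.L, V)} {y : Γ(Λ.L, V)} (H : G Λ Λ' V x y) :
    G Λ Λ' V' (mres _ h x) (mres _ h y) := fun W hW g hg => by
  rw [mres_mres, mres_mres]
  exact H W _ g hg

theorem g_of_rel (W : X.affineOpens) (g : Fin r → Γ(X, W.1)) (hg : ∀ i, (D i).ideal W = Ideal.span {g i})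
    {x : Γ(Λ'.L, W.1)} {y : Γ(Λ.L, W.1)} (H : Rel Λ Λ' W.1 g x y) : G Λ Λ' W.1 x y := by
  intro W' hW g' hg'
  obtain ⟨y', hy'⟩ := exists_rel Λ Λ' W' g' hg' (mres _ hW x)
  rwa [rel_unique Λ Λ' (ideal_res hW g hg) hg' (rel_mres Λ Λ' hW H) hy']

variable (hD : LogNCD.IsNCD D f)

include hD in
theorem exists_cover (V : X.Opens) (x : X) (hx : x ∈ V) :
    ∃ W : X.affineOpens, x ∈ W.1 ∧ W.1 ≤ V ∧ ∃ g : Fin r → Γ(X, W.1),
      ∀ i, (D i).ideal W = Ideal.span {g i} := by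
  obtain ⟨O, hxO, hO⟩ := exists_principal hD x
  obtain ⟨W, hW, hxW, hWle⟩ := exists_isAffineOpen_mem_and_subset (U := O ⊓ V) ⟨hxO, hx⟩
  exact ⟨⟨W, hW⟩, hxW, le_trans hWle inf_le_right, hO _ (le_trans hWle inf_le_left)⟩

include hD in
theorem g_unique {V : X.Opens} {x : Γ(Λ'.L, V)} {y y' : Γ(Λ.L, V)} (H : G Λ Λ' V x y) (H' : G Λ Λ' V x y') :
    y = y' := by
  choose W hxW hWV g hg using fun p : {p // p ∈ V} => exists_cover hD V p.1 p.2
  refine modules_eq_of_locally_eq Λ.L V (fun p => (W p).1) hWV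
    (fun p hp => Opens.mem_iSup.2 ⟨⟨p, hp⟩, hxW ⟨p, hp⟩⟩) _ _ fun p => ?_
  exact rel_unique Λ Λ' (hg p) (hg p) (H (W p) _ (g p) (hg p)) (H' (W p) _ (g p) (hg p))

include hD in
theorem exists_G (V : X.Opens) (x : Γ(Λ'.L, V)) : ∃ y, G Λ Λ' V x y := by
  choose W hxW hWV g hg using fun p : {p // p ∈ V} => exists_cover hD V p.1 p.2
  choose y hy using fun p => exists_rel Λ Λ' (W p) (g p) (hg p) (mres _ (hWV p) x)
  have hG := fun p => g_of_rel Λ Λ' (W p) (g p) (hg p) (hy p)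
  have hcov : V ≤ ⨆ p, (W p).1 := fun p hp => Opens.mem_iSup.2 ⟨⟨p, hp⟩, hxW ⟨p, hp⟩⟩
  obtain ⟨z, hz, -⟩ := TopCat.Sheaf.existsUnique_gluing' ⟨_, Λ.L.isSheaf⟩ (fun p => (W p).1) V
    (fun p => homOfLE (hWV p)) hcov y fun p q => by
      show mres Λ.L (inf_le_left : (W p).1 ⊓ (W q).1 ≤ _) (y p) = mres Λ.L inf_le_right (y q)
      have a := g_mres Λ Λ' (inf_le_left : (W p).1 ⊓ (W q).1 ≤ _) (hG p)
      have b := g_mres Λ Λ' (inf_le_right : (W p).1 ⊓ (W q).1 ≤ _) (hG q)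
      rw [mres_mres] at a b
      exact g_unique Λ Λ' hD a b
  refine ⟨z, fun U hU g' hg' => ?_⟩
  obtain ⟨y', hy'⟩ := exists_rel Λ Λ' U g' hg' (mres _ hU x)
  suffices e : mres Λ.L hU z = y' by rw [e]; exact hy'
  have hG' := g_of_rel Λ Λ' U g' hg' hy'
  refine modules_eq_of_locally_eq Λ.L U.1 (fun p => U.1 ⊓ (W p).1) (fun p => inf_le_left)
    (by rw [← inf_iSup_eq]; exact le_inf le_rfl (hU.trans hcov)) _ _ fun p => ?_
  have a := g_mres Λ Λ' (inf_le_right : U.1 ⊓ (W p).1 ≤ _) (hG p)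
  have b := g_mres Λ Λ' (inf_le_left : U.1 ⊓ (W p).1 ≤ _) hG'
  rw [mres_mres] at a b
  refine Eq.trans ?_ (g_unique Λ Λ' hD a b)
  have hz' : mres Λ.L (hWV p) z = y p := hz p
  rw [← hz', mres_mres, mres_mres]

/-- The inclusion on sections. -/
noncomputable def subFun (V : X.Opens) (x : Γ(Λ'.L, V)) : Γ(Λ.L, V) := (exists_G Λ Λ' hD V x).choose

theorem subFun_spec (V : X.Opens) (x : Γ(Λ'.L, V)) : G Λ Λ' V x (subFun Λ Λ' hD V x) :=
  (exists_G Λ Λ' hD V x).choose_spec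

theorem subFun_add (V : X.Opens) (x x' : Γ(Λ'.L, V)) :
    subFun Λ Λ' hD V (x + x') = subFun Λ Λ' hD V x + subFun Λ Λ' hD V x' := by
  refine g_unique Λ Λ' hD (subFun_spec Λ Λ' hD V _) fun W hW g hg => ?_
  obtain ⟨w, h1, h2⟩ := subFun_spec Λ Λ' hD V x W hW g hg
  obtain ⟨w', h1', h2'⟩ := subFun_spec Λ Λ' hD V x' W hW g hg
  exact ⟨w + w', by rw [map_add, map_add, smul_add, h1, h1'], by rw [map_add, map_add, smul_add, h2, h2']⟩

theorem subFun_smul (V : X.Opens) (a : Γ(X, V)) (x : Γ(Λ'.L, V)) :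
    subFun Λ Λ' hD V (a • x) = a • subFun Λ Λ' hD V x := by
  refine g_unique Λ Λ' hD (subFun_spec Λ Λ' hD V _) fun W hW g hg => ?_
  obtain ⟨w, h1, h2⟩ := subFun_spec Λ Λ' hD V x W hW g hg
  refine ⟨ores hW a • w, ?_, ?_⟩
  · rw [mres_smul, smul_comm, h1, Scheme.Modules.Hom.app_smul]
  · rw [mres_smul, smul_comm, h2, Scheme.Modules.Hom.app_smul]

theorem subFun_mres {V V' : X.Opens} (h : V' ≤ V) (x : Γ(Λ'.L, V)) :
    subFun Λ Λ' hD V' (mres _ h x) = mres _ h (subFun Λ Λ' hD V x) :=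
  g_unique Λ Λ' hD (subFun_spec Λ Λ' hD V' _) (g_mres Λ Λ' h (subFun_spec Λ Λ' hD V x))

/-- The inclusion `Ω¹(log D') ⊆ Ω¹(log D)`. -/
noncomputable def subHom : Λ'.L ⟶ Λ.L :=
  ⟨PresheafOfModules.homMk
    { app := fun V => AddCommGrpCat.ofHom
        (AddMonoidHom.mk' (subFun Λ Λ' hD V.unop) (subFun_add Λ Λ' hD V.unop))
      naturality := fun V V' i => by
        ext x
        exact subFun_mres Λ Λ' hD (leOfHom i.unop) x }
    (fun V a x => subFun_smul Λ Λ' hD V.unop a x)⟩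

include hD in
theorem exists_isSubLog : ∃ κ : Λ'.L ⟶ Λ.L, LogNCD.IsSubLog Λ' Λ κ := by
  refine ⟨subHom Λ Λ' hD, ?_⟩
  refine Scheme.Modules.hom_ext _ _ fun V => ?_
  ext w
  refine g_unique Λ Λ' hD (subFun_spec Λ Λ' hD V (Λ'.ι.app V w)) fun W hW g hg => ?_
  refine ⟨(∏ i, g i) • mres _ hW w, ?_, ?_⟩
  · rw [← app_mres, Scheme.Modules.Hom.app_smul]
  · rw [← app_mres, Scheme.Modules.Hom.app_smul]

variable {Λ Λ'}

/-- Any inclusion sends the logarithmic differentials to logarithmic differentials. -/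
theorem app_dl {W : X.affineOpens} (C : Chart Λ W) (C' : Chart Λ' W) (hgg : C'.g = C.g ∘ σ)
    (κ : Λ'.L ⟶ Λ.L) (hκ : LogNCD.IsSubLog Λ' Λ κ) (j : Fin r') : κ.app W.1 (C'.dl j) = C.dl (σ j) := by
  classical
  refine sub_eq_zero.1 (C.torsion _ ?_)
  rw [← Finset.prod_erase_mul _ _ (Finset.mem_univ (σ j)), mul_smul, smul_sub,
    ← Scheme.Modules.Hom.app_smul]
  have e := C'.gdl j
  rw [hgg] at e
  rw [show C.g (σ j) • C'.dl j = _ from e, C.gdl,
    show κ.app W.1 (Λ'.ι.app W.1 (d.app W.1 ((C.g ∘ σ) j))) = Λ.ι.app W.1 (d.app W.1 (C.g (σ j))) from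
      congrArg (fun φ : Ω' ⟶ Λ.L => φ.app W.1 (d.app W.1 (C.g (σ j)))) hκ, sub_self, smul_zero]

include hD in
/-- The inclusion of the log module of the family without one component is the kernel of its residue. -/
theorem shortExact_sub {i : Fin r} (hi : ∀ k, k ≠ i ↔ ∃ j, σ j = k) (hσ : Function.Injective σ)
    (κ : Λ'.L ⟶ Λ.L) (hκ : LogNCD.IsSubLog Λ' Λ κ) (h : κ ≫ Λ.res i = 0) :
    (ShortComplex.mk κ (Λ.res i) h).ShortExact := by
  classical
  haveI := Λ.mono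
  haveI := Λ'.mono
  have hmono : Mono κ := by
    refine Preadditive.mono_of_cancel_zero _ fun {A} k hk => ?_
    refine ModLimH13.hom_ext_affine _ _ fun x => ?_
    obtain ⟨O, hxO, hO⟩ := exists_principal hD x
    refine ⟨O, hxO, fun W hW hWa a => ?_⟩
    obtain ⟨g, hg⟩ := hO ⟨W, hWa⟩ hW
    have hz : κ.app W (k.app W a) = 0 := congrArg (fun φ : A ⟶ Λ.L => φ.app W a) hk
    obtain ⟨C', hC'⟩ := nonempty_chart Λ' ⟨W, hWa⟩ (g ∘ σ) fun j => hg (σ j)
    refine C'.torsion _ ?_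
    rw [hC']
    obtain ⟨v, b, hv⟩ := C'.gen (k.app W a)
    have hQ : ∃ u : Γ(Ω', W), (∏ j, g (σ j)) • k.app W a = Λ'.ι.app W u := by
      rw [hv, smul_add, Finset.smul_sum]
      refine ⟨(∏ j, g (σ j)) • v + ∑ j, (b j * ∏ l ∈ Finset.univ.erase j, g (σ l)) • d.app W (g (σ j)), ?_⟩
      rw [map_add, map_sum, Scheme.Modules.Hom.app_smul]
      refine congrArg (_ + ·) (Finset.sum_congr rfl fun j _ => ?_)
      have e := C'.gdl j
      rw [hC'] at e
      rw [Scheme.Modules.Hom.app_smul]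
      refine Eq.trans ?_ (congrArg (fun z => (b j * ∏ l ∈ Finset.univ.erase j, g (σ l)) • z) e)
      rw [smul_smul, smul_smul, ← Finset.prod_erase_mul _ _ (Finset.mem_univ j)]
      congr 1
      show _ = b j * _ * g (σ j)
      ring
    obtain ⟨u, hu⟩ := hQ
    show (∏ j, g (σ j)) • k.app W a = 0
    rw [hu]
    have hu0 : u = 0 := by
      refine app_injective Λ.ι W ?_
      rw [map_zero]
      refine Eq.trans (congrArg (fun φ : Ω' ⟶ Λ.L => φ.app W u) hκ).symm ?_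
      show κ.app W (Λ'.ι.app W u) = 0
      rw [← hu, Scheme.Modules.Hom.app_smul, hz, smul_zero]
    rw [hu0, map_zero]
  haveI := hmono
  refine { exact := ?_, mono_f := hmono, epi_g := ?_ }
  · refine ShortComplex.exact_of_f_is_kernel _ (KernelFork.IsLimit.ofι' _ _ fun {A} k hk => ?_)
    have hc : k ≫ cokernel.π κ = 0 := by
      refine ModLimH13.hom_ext_affine _ _ fun x => ?_
      obtain ⟨O, hxO, hO⟩ := exists_principal hD x
      refine ⟨O, hxO, fun W hW hWa t => ?_⟩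
      obtain ⟨g, hg⟩ := hO ⟨W, hWa⟩ hW
      obtain ⟨C, hC⟩ := nonempty_chart Λ ⟨W, hWa⟩ g hg
      obtain ⟨C', hC'⟩ := nonempty_chart Λ' ⟨W, hWa⟩ (g ∘ σ) fun j => hg (σ j)
      obtain ⟨w, a, hwa⟩ := C.gen (k.app W t)
      have hres : (Λ.res i).app W (k.app W t) = 0 :=
        congrArg (fun φ : A ⟶ ClSub.quotMod (D i) => φ.app W t) hk
      rw [hwa] at hres
      obtain ⟨v, hv⟩ := C.smul_dl_mem i (a i)
        ((toSubscheme_eq_zero_iff _ ⟨W, hWa⟩ _).1 ((C.res_gen w a i).symm.trans hres))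
      have himg : κ.app W (Λ'.ι.app W (w + v) + ∑ j, a (σ j) • C'.dl j) = k.app W t := by
        rw [hwa, map_add, map_sum, ← Finset.add_sum_erase _ _ (Finset.mem_univ i), hv,
          show κ.app W (Λ'.ι.app W (w + v)) = Λ.ι.app W (w + v) from
            congrArg (fun φ : Ω' ⟶ Λ.L => φ.app W (w + v)) hκ,
          map_add, add_assoc]
        congr 2
        rw [show Finset.univ.erase i = Finset.univ.image σ by ext l; simp [hi l],
          Finset.sum_image hσ.injOn]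
        refine Finset.sum_congr rfl fun j _ => ?_
        rw [Scheme.Modules.Hom.app_smul, app_dl C C' (by rw [hC, hC']) κ hκ]
      refine Eq.trans ?_ (congrArg
        (fun φ : Λ'.L ⟶ cokernel κ => φ.app W (Λ'.ι.app W (w + v) + ∑ j, a (σ j) • C'.dl j)) (cokernel.condition κ))
      exact congrArg (fun z => (cokernel.π κ).app W z) himg.symm
    exact ⟨Abelian.monoLift κ k hc, Abelian.monoLift_comp _ _ _⟩
  · refine Preadditive.epi_of_cancel_zero _ fun {Z} φ hφ => ?_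
    replace hφ : Λ.res i ≫ φ = 0 := hφ
    haveI := M2.epi_toSubscheme (D i)
    show φ = 0
    rw [← cancel_epi (ClSub.toSubscheme (D i)), comp_zero]
    refine ModLimH13.hom_ext_affine _ _ fun x => ?_
    obtain ⟨O, hxO, hO⟩ := exists_principal hD x
    refine ⟨O, hxO, fun W hW hWa (a : Γ(X, W)) => ?_⟩
    obtain ⟨g, hg⟩ := hO ⟨W, hWa⟩ hW
    obtain ⟨C, -⟩ := nonempty_chart Λ ⟨W, hWa⟩ g hg
    have h' := congrArg (fun χ : Λ.L ⟶ Z => χ.app W (a • C.dl i)) hφ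
    refine Eq.trans ?_ h'
    show _ = φ.app W ((Λ.res i).app W (a • C.dl i))
    rw [Scheme.Modules.Hom.app_smul, C.res_self, smul_oneOn]
    rfl

end Groth.Agent.LogNCD28
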